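import Cfsg.Agent.R2.H14.T.Rat

/-!
# T-type: the final contradiction (helper14)

`fin_model` : if an element `s` of `SL(2, q)` acts on `e 0 0 2, e 0 1 2, e 0 2 2` like a conjugate of `u 1` by a diagonal
element, then `τ 1 / τ 0 = τ 2 / τ 1`.
-/

set_option autoImplicit false
set_option linter.unusedSectionVars false

namespace Cfsg.Agent.R2.H14.T

open Matrix Cfsg.Agent.H943.SL2Rel Cfsg.Agent.H943.SL2Mod Cfsg.Agent.H943.RepAdd Cfsg.Agent.R2.H28.SL2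

variable {k : Type*} [Field k] [DecidableEq k] {K : Type*} [Field K] [Fintype K] [DecidableEq K] (ι : K →+* k)
variable {p : ℕ} [Fact p.Prime] [CharP k p] [CharP K p] {i : Fin 3 → ℕ}
variable {V : Type*} [AddCommGroup V] [Module k V] {ρ : Representation k (SpecialLinearGroup (Fin 2) K) V}
variable {a : ℕ} (hK : Fintype.card K = p ^ a) (D : Dg3 p a i)

include hK D

/-- `φ` is injective -/
theorem TT.inj {φ : ∀ c : Fin 3, Vb ι (bw p i c) →ₗ[k] V} (T : TT ι p i ρ φ) (c : Fin 3) : Function.Injective (φ c) := by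
  obtain ⟨B, hB⟩ := T.bas
  rw [← LinearMap.ker_eq_bot, LinearMap.ker_eq_bot']
  intro f hf
  obtain ⟨κ, hκ⟩ := exists_sum ι hK D c f
  rw [hκ, map_sum] at hf
  have h1 : ∀ z : Fin 3 × Fin 3, κ z = 0 := by
    intro z
    have h2 := congrArg (fun w => B.repr w (c, z.1, z.2)) hf
    simp only [map_sum, map_zero, Finsupp.coe_zero, Pi.zero_apply] at h2
    rw [Finsupp.finsetSum_apply, Finset.sum_eq_single z] at h2
    · rw [map_smul, map_smul, show φ c (mv ι p i c z.1 z.2) = B (c, z.1, z.2) from (hB _ _ _).symm,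
        Module.Basis.repr_self] at h2
      simpa using h2
    · intro z' _ hne
      rw [map_smul, map_smul, show φ c (mv ι p i c z'.1 z'.2) = B (c, z'.1, z'.2) from (hB _ _ _).symm,
        Module.Basis.repr_self]
      simp only [Finsupp.smul_apply, smul_eq_mul]
      rw [Finsupp.single_eq_of_ne, mul_zero]
      intro h3
      rw [Prod.mk.injEq, Prod.mk.injEq] at h3
      exact hne (Prod.ext h3.2.1.symm h3.2.2.symm)
    · intro hh
      exact absurd (Finset.mem_univ _) hh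
  rw [hκ]
  exact Finset.sum_eq_zero fun z _ => by rw [h1, zero_smul]

/-- the three monomials -/
theorem mon3 (x : Fin 3) (s t : K) : (mv ι p i 0 x 2 : K × K → k) (s, t) =
    ι s ^ (bw p i 0 - (2 - (x : ℕ)) * p ^ i 1) * ι t ^ ((2 - (x : ℕ)) * p ^ i 1) := by
  rw [coe_mv ι hK D]
  show ι s ^ mw p i 0 x 2 * ι t ^ (bw p i 0 - mw p i 0 x 2) = _
  have h1 : bw p i 0 - mw p i 0 x 2 = (2 - (x : ℕ)) * p ^ i 1 := by
    rw [sub_mw]
    have key : ∀ x : Fin 3, ((2 - x : Fin 3) : ℕ) = 2 - (x : ℕ) := by decide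
    unfold mw
    rw [key, show (2 - 2 : Fin 3) = 0 from rfl]
    simp
  have h2 := D.mw_le 0 x 2
  have h3 : mw p i 0 x 2 = bw p i 0 - (2 - (x : ℕ)) * p ^ i 1 := by omega
  rw [h1, h3]

/-- the action of `u 1` -/
theorem u_one {φ : ∀ c : Fin 3, Vb ι (bw p i c) →ₗ[k] V} (T : TT ι p i ρ φ) :
    ρ (u 1) (evc ι p i φ 0 2 2) = evc ι p i φ 0 2 2 ∧
    ρ (u 1) (evc ι p i φ 0 1 2) = evc ι p i φ 0 1 2 + evc ι p i φ 0 2 2 ∧
    ρ (u 1) (evc ι p i φ 0 0 2) = evc ι p i φ 0 0 2 + (2 : k) • evc ι p i φ 0 1 2 + evc ι p i φ 0 2 2 := by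
  have hP : 2 * p ^ i 1 ≤ bw p i 0 := Nat.le_add_right _ _
  have v0 : ((0 : Fin 3) : ℕ) = 0 := rfl
  have v1 : ((1 : Fin 3) : ℕ) = 1 := rfl
  have v2 : ((2 : Fin 3) : ℕ) = 2 := rfl
  have hadd : ∀ s t : k, (s + t) ^ (p ^ i 1) = s ^ (p ^ i 1) + t ^ (p ^ i 1) := fun s t => add_pow_char_pow s t p _
  refine ⟨?_, ?_, ?_⟩
  · refine (T.eqv 0 (u 1) (mv ι p i 0 2 2) (mv ι p i 0 2 2) ?_).symm
    funext z
    obtain ⟨s, t⟩ := z
    rw [fRep_u, mon3 ι hK D, mon3 ι hK D, v2]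
    simp
  · have h1 := T.eqv 0 (u 1) (mv ι p i 0 1 2) (mv ι p i 0 1 2 + mv ι p i 0 2 2) (by
      funext z
      obtain ⟨s, t⟩ := z
      rw [fRep_u, mon3 ι hK D, Submodule.coe_add, Pi.add_apply, mon3 ι hK D, mon3 ι hK D, v1, v2,
        show 2 - 1 = 1 from rfl, show 2 - 2 = 0 from rfl, one_mul, zero_mul, pow_zero, Nat.sub_zero, mul_one, map_add,
        mul_one, hadd]
      have e : ι s ^ bw p i 0 = ι s ^ (bw p i 0 - p ^ i 1) * ι s ^ p ^ i 1 := by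
        rw [← pow_add]
        congr 1
        omega
      rw [e]
      ring)
    rw [map_add] at h1
    exact h1.symm
  · have h1 := T.eqv 0 (u 1) (mv ι p i 0 0 2) (mv ι p i 0 0 2 + (2 : k) • mv ι p i 0 1 2 + mv ι p i 0 2 2) (by
      funext z
      obtain ⟨s, t⟩ := z
      rw [fRep_u, mon3 ι hK D, Submodule.coe_add, Pi.add_apply, Submodule.coe_add, Pi.add_apply, Submodule.coe_smul,
        Pi.smul_apply, mon3 ι hK D, mon3 ι hK D, mon3 ι hK D, v0, v1, v2,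
        show 2 - 1 = 1 from rfl, show 2 - 2 = 0 from rfl, one_mul, zero_mul, pow_zero, Nat.sub_zero, mul_one, map_add,
        mul_one, Nat.sub_zero, mul_comm 2 (p ^ i 1), pow_mul, pow_mul, hadd, smul_eq_mul]
      have e1 : ι s ^ bw p i 0 = ι s ^ (bw p i 0 - p ^ i 1 * 2) * (ι s ^ p ^ i 1) ^ 2 := by
        rw [← pow_mul, ← pow_add]
        congr 1
        omega
      have e2 : ι s ^ (bw p i 0 - p ^ i 1) = ι s ^ (bw p i 0 - p ^ i 1 * 2) * ι s ^ p ^ i 1 := by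
        rw [← pow_add]
        congr 1
        omega
      rw [e1, e2]
      ring)
    rw [map_add, map_add, map_smul] at h1
    exact h1.symm

/-- **the elements of `SL(2, q)`** -/
theorem fin_model {φ : ∀ c : Fin 3, Vb ι (bw p i c) →ₗ[k] V} (T : TT ι p i ρ φ) {s : SpecialLinearGroup (Fin 2) K}
    {r r' r'' : k} (h2 : ρ s (evc ι p i φ 0 2 2) = evc ι p i φ 0 2 2)
    (h1 : ρ s (evc ι p i φ 0 1 2) = evc ι p i φ 0 1 2 + r • evc ι p i φ 0 2 2)
    (h0 : ρ s (evc ι p i φ 0 0 2) = evc ι p i φ 0 0 2 + (2 * r') • evc ι p i φ 0 1 2 + r'' • evc ι p i φ 0 2 2) :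
    r = r' := by
  have h3 := D.three
  have hP : 2 * p ^ i 1 ≤ bw p i 0 := Nat.le_add_right _ _
  have hP1 : 1 ≤ p ^ i 1 := Nat.one_le_pow _ _ (by omega)
  have v0 : ((0 : Fin 3) : ℕ) = 0 := rfl
  have v1 : ((1 : Fin 3) : ℕ) = 1 := rfl
  have v2 : ((2 : Fin 3) : ℕ) = 2 := rfl
  have hp2 : (2 : k) ≠ 0 := by
    intro h
    have : ((2 : ℕ) : k) = 0 := by exact_mod_cast h
    rw [CharP.cast_eq_zero_iff k p] at this
    have := Nat.le_of_dvd (by norm_num) this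
    omega
  have hadd : ∀ s t : k, (s + t) ^ (p ^ i 1) = s ^ (p ^ i 1) + t ^ (p ^ i 1) := fun s t => add_pow_char_pow s t p _
  have hb : bw p i 0 ≤ Fintype.card K - 1 := by rw [hK]; exact (D.bw_lt 0).le
  -- functions
  have hfun : ∀ f f' : Vb ι (bw p i 0), ρ s (φ 0 f) = φ 0 f' → (f' : K × K → k) = fRep k K s f := by
    intro f f' h
    have h4 := T.eqv 0 s f (RB ι p hb s f) rfl
    rw [h] at h4
    have h5 := TT.inj ι hK D T 0 h4
    rw [← h5]
    rfl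
  have f2 := hfun (mv ι p i 0 2 2) (mv ι p i 0 2 2) h2
  have f1 := hfun (mv ι p i 0 1 2) (mv ι p i 0 1 2 + r • mv ι p i 0 2 2) (by rw [map_add, map_smul]; exact h1)
  have f0 := hfun (mv ι p i 0 0 2) (mv ι p i 0 0 2 + (2 * r') • mv ι p i 0 1 2 + r'' • mv ι p i 0 2 2) (by
    rw [map_add, map_add, map_smul, map_smul]; exact h0)
  obtain ⟨α, hα⟩ : ∃ α, α = s.1 0 0 := ⟨_, rfl⟩
  obtain ⟨β, hβ⟩ : ∃ β, β = s.1 0 1 := ⟨_, rfl⟩
  obtain ⟨γ, hγ⟩ : ∃ γ, γ = s.1 1 0 := ⟨_, rfl⟩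
  obtain ⟨δ, hδ⟩ : ∃ δ, δ = s.1 1 1 := ⟨_, rfl⟩
  have hdet : α * δ - β * γ = 1 := by
    rw [hα, hβ, hγ, hδ, ← Matrix.det_fin_two]
    exact s.2
  have hf : ∀ (f : K × K → k) (x y : K), fRep k K s f (x, y) = f (x * α + y * γ, x * β + y * δ) := by
    intro f x y
    rw [hα, hβ, hγ, hδ]
    rfl
  -- `γ = 0`, `α ^ b = 1`
  have g1 := congrFun f2 (0, 1)
  rw [hf, mon3 ι hK D, mon3 ι hK D, v2, show 2 - 2 = 0 from rfl, zero_mul, Nat.sub_zero, pow_zero, mul_one, pow_zero,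
    mul_one, map_zero, zero_pow (by omega), zero_mul, zero_add, one_mul] at g1
  have hγ0 : ι γ = 0 := (pow_eq_zero_iff (n := bw p i 0) (by omega)).1 g1.symm
  have hγ1 : γ = 0 := by
    apply ι.injective
    rw [hγ0, map_zero]
  rw [hγ1, mul_zero, sub_zero] at hdet
  have g2 := congrFun f2 (1, 0)
  rw [hf, mon3 ι hK D, mon3 ι hK D, v2, show 2 - 2 = 0 from rfl, zero_mul, Nat.sub_zero, pow_zero, mul_one, pow_zero,
    mul_one, map_one, one_pow, one_mul, zero_mul, add_zero] at g2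
  -- `e1`
  have k1 : ∀ y : K, ι y ^ p ^ i 1 + r = ι α ^ (bw p i 0 - p ^ i 1) * (ι β ^ p ^ i 1 + ι y ^ p ^ i 1 * ι δ ^ p ^ i 1) := by
    intro y
    have g := congrFun f1 (1, y)
    rw [hf, Submodule.coe_add, Pi.add_apply, Submodule.coe_smul, Pi.smul_apply, mon3 ι hK D, mon3 ι hK D, mon3 ι hK D,
      v1, v2, show 2 - 1 = 1 from rfl, show 2 - 2 = 0 from rfl, zero_mul, Nat.sub_zero, pow_zero, mul_one, map_one,
      one_pow, one_pow, one_mul, one_mul, one_mul, one_mul, hγ1, mul_zero, add_zero, map_add, map_mul, hadd, mul_pow,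
      smul_eq_mul, mul_one] at g
    exact g
  have k0 : ∀ y : K, (ι y ^ p ^ i 1) ^ 2 + 2 * r' * ι y ^ p ^ i 1 + r'' =
      ι α ^ (bw p i 0 - 2 * p ^ i 1) * (ι β ^ p ^ i 1 + ι y ^ p ^ i 1 * ι δ ^ p ^ i 1) ^ 2 := by
    intro y
    have g := congrFun f0 (1, y)
    rw [hf, Submodule.coe_add, Pi.add_apply, Submodule.coe_add, Pi.add_apply, Submodule.coe_smul, Pi.smul_apply,
      Submodule.coe_smul, Pi.smul_apply, mon3 ι hK D, mon3 ι hK D, mon3 ι hK D, mon3 ι hK D, v0, v1, v2,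
      show 2 - 1 = 1 from rfl, show 2 - 2 = 0 from rfl, Nat.sub_zero, zero_mul, Nat.sub_zero, pow_zero, mul_one,
      map_one, one_pow, one_pow, one_pow, one_mul, one_mul, one_mul, one_mul, hγ1, mul_zero, add_zero, map_add,
      map_mul, smul_eq_mul, smul_eq_mul, mul_one] at g
    have e1 : ι y ^ (2 * p ^ i 1) = (ι y ^ p ^ i 1) ^ 2 := by rw [mul_comm 2 (p ^ i 1), pow_mul]
    have e2 : (ι β + ι y * ι δ) ^ (2 * p ^ i 1) = (ι β ^ p ^ i 1 + ι y ^ p ^ i 1 * ι δ ^ p ^ i 1) ^ 2 := by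
      rw [mul_comm 2 (p ^ i 1), pow_mul, hadd, mul_pow]
    rw [map_mul, map_one, one_mul, e1, e2] at g
    exact g
  -- the values
  obtain ⟨A, hA⟩ : ∃ A, A = ι α ^ p ^ i 1 := ⟨_, rfl⟩
  obtain ⟨B', hB'⟩ : ∃ A, A = ι β ^ p ^ i 1 := ⟨_, rfl⟩
  obtain ⟨E, hE⟩ : ∃ A, A = ι δ ^ p ^ i 1 := ⟨_, rfl⟩
  obtain ⟨X, hX⟩ : ∃ A, A = ι α ^ (bw p i 0 - 2 * p ^ i 1) := ⟨_, rfl⟩
  have hAE : A * E = 1 := by
    rw [hA, hE, ← mul_pow, ← map_mul, hdet, map_one, one_pow]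
  have hX1 : ι α ^ (bw p i 0 - p ^ i 1) = X * A := by
    rw [hX, hA, ← pow_add]
    congr 1
    omega
  have hX2 : ι α ^ bw p i 0 = X * A * A := by
    rw [hX, hA, mul_assoc, ← pow_add, ← pow_add]
    congr 1
    omega
  have k10 := k1 0
  have k11 := k1 1
  have k0p := k0 1
  have k0m := k0 (-1)
  have hodd : (-1 : k) ^ p ^ i 1 = -1 := by
    have hp : p.Prime := Fact.out
    exact ((hp.odd_of_ne_two (by omega)).pow).neg_one_pow
  rw [map_zero, zero_pow (by omega), zero_mul, zero_add, add_zero, hX1, ← hB'] at k10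
  rw [map_one, one_pow, one_mul, hX1, ← hB', ← hE] at k11
  rw [map_one, one_pow, one_pow, one_mul, ← hX, ← hB', ← hE] at k0p
  rw [map_neg, map_one, hodd, ← hX, ← hB', ← hE] at k0m
  rw [hX2] at g2
  -- `X A E = 1`, so `X = 1` and `A ^ 2 = 1`
  have m1 : X = 1 := by linear_combination k10 - k11 - X * hAE
  have m2 : A * A = 1 := by rw [m1, one_mul] at g2; exact g2.symm
  have m3 : (4 : k) * (r' - B' * E) = 0 := by
    rw [m1] at k0p k0m
    linear_combination k0p - k0m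
  have h4 : (4 : k) ≠ 0 := by
    have : (4 : k) = 2 * 2 := by norm_num
    rw [this]
    exact mul_ne_zero hp2 hp2
  have m4 := (mul_eq_zero.1 m3).resolve_left h4
  rw [m1] at k10
  linear_combination k10 - m4 + (B' * E) * m2 - (A * B') * hAE
  
end Cfsg.Agent.R2.H14.T
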