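import Cfsg.Agent.R2.H14.T.Rat

/-!
# T-type: semilinear maps, part 2 (helper14)

`exists_perm` : an equivariant injective semilinear map (`c ↦ c ^ (p ^ n)`) between two modules of type `TT` maps
`e₁ c x y` to a multiple of `e₂ (π c) x y`.
-/

set_option autoImplicit false
set_option linter.unusedSectionVars false

namespace Cfsg.Agent.R2.H14.T

open Matrix Cfsg.Agent.H943.SL2Rel Cfsg.Agent.H943.SL2Mod Cfsg.Agent.H943.RepAdd Cfsg.Agent.R2.H28.SL2

variable {k : Type*} [Field k] [DecidableEq k] {K : Type*} [Field K] [Fintype K] [DecidableEq K] (ι : K →+* k)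
variable {p : ℕ} [Fact p.Prime] [CharP k p] [CharP K p] {i : Fin 3 → ℕ}
variable {V₁ : Type*} [AddCommGroup V₁] [Module k V₁] {ρ₁ : Representation k (SpecialLinearGroup (Fin 2) K) V₁}
variable {V₂ : Type*} [AddCommGroup V₂] [Module k V₂] {ρ₂ : Representation k (SpecialLinearGroup (Fin 2) K) V₂}
variable {a : ℕ} (hK : Fintype.card K = p ^ a) (D : Dg3 p a i)

include hK D

/-- comparison of the weights of the components -/
theorem comp_wt {φ₂ : ∀ c : Fin 3, Vb ι (bw p i c) →ₗ[k] V₂} (T₂ : TT ι p i ρ₂ φ₂) {v : V₂} {m : ℤ}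
    (hv : ∀ t : Kˣ, ρ₂ (h t) v = (ι (t : K) ^ m) • v) {B : Module.Basis (Fin 3 × Fin 3 × Fin 3) k V₂}
    (hB : ∀ c x y, B (c, x, y) = evc ι p i φ₂ c x y) (z : Fin 3 × Fin 3 × Fin 3) (hz : B.repr v z ≠ 0) :
    ((Fintype.card K - 1 : ℕ) : ℤ) ∣ m - W p i z.1 z.2.1 z.2.2 := by
  refine dvd_of_zpow ι fun t => ?_
  have h1 := congrArg (fun w => B.repr w z) (hv t)
  simp only [map_smul, Finsupp.smul_apply, smul_eq_mul] at h1
  have h2 : B.repr (ρ₂ (h t) v) z = ι (t : K) ^ W p i z.1 z.2.1 z.2.2 * B.repr v z := by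
    nth_rewrite 1 [← B.sum_repr v]
    rw [map_sum, map_sum, Finsupp.finsetSum_apply, Finset.sum_eq_single z]
    · rw [map_smul, map_smul, show B z = evc ι p i φ₂ z.1 z.2.1 z.2.2 from hB _ _ _, ev_h ι hK D T₂, map_smul,
        ← hB, Module.Basis.repr_self]
      simp only [Finsupp.smul_apply, Finsupp.single_eq_same, smul_eq_mul, mul_one]
      ring
    · intro z' _ hne
      rw [map_smul, map_smul, show B z' = evc ι p i φ₂ z'.1 z'.2.1 z'.2.2 from hB _ _ _, ev_h ι hK D T₂, map_smul,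
        ← hB, Module.Basis.repr_self]
      simp only [Finsupp.smul_apply, smul_eq_mul]
      rw [Finsupp.single_eq_of_ne (Ne.symm hne)]
      ring
    · intro hh
      exact absurd (Finset.mem_univ _) hh
  rw [h2] at h1
  exact (mul_right_cancel₀ hz h1).symm

/-- **semilinear maps** -/
theorem exists_perm {φ₁ : ∀ c : Fin 3, Vb ι (bw p i c) →ₗ[k] V₁} (T₁ : TT ι p i ρ₁ φ₁)
    {φ₂ : ∀ c : Fin 3, Vb ι (bw p i c) →ₗ[k] V₂} (T₂ : TT ι p i ρ₂ φ₂) {n : ℕ} {θ : k →+* k}
    (hθ : ∀ t, θ t = t ^ (p ^ n)) (J : V₁ →ₛₗ[θ] V₂) (hJ : ∀ x, J x = 0 → x = 0) (hJρ : ∀ g x, J (ρ₁ g x) = ρ₂ g (J x)) :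
    ∃ π : Fin 3 → Fin 3, ∀ c x y, ∃ κ : k, J (evc ι p i φ₁ c x y) = κ • evc ι p i φ₂ (π c) x y := by
  obtain ⟨B, hB⟩ := T₂.bas
  obtain ⟨B₁, hB₁⟩ := T₁.bas
  -- the weights
  have hw : ∀ c x y (t : Kˣ), ρ₂ (h t) (J (evc ι p i φ₁ c x y)) =
      (ι (t : K) ^ ((p : ℤ) ^ n * W p i c x y)) • J (evc ι p i φ₁ c x y) := by
    intro c x y t
    rw [← hJρ, ev_h ι hK D T₁, LinearMap.map_smulₛₗ, hθ, ← zpow_natCast, ← _root_.zpow_mul]
    congr 2
    push_cast
    ring
  -- the highest weight vectors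
  have h1 : ∀ c, ∃ d, ∃ κ : k, J (evc ι p i φ₁ c 2 2) = κ • evc ι p i φ₂ d 2 2 ∧
      ((Fintype.card K - 1 : ℕ) : ℤ) ∣ (p : ℤ) ^ n * W p i c 2 2 - W p i d 2 2 := by
    intro c
    have hu : ∀ t, ρ₂ (u t) (J (evc ι p i φ₁ c 2 2)) = J (evc ι p i φ₁ c 2 2) := by
      intro t
      rw [← hJρ]
      congr 1
      rw [u_eq ι ρ₁ p t, Finset.sum_eq_zero, add_zero]
      intro m hm
      rw [Finset.mem_Icc] at hm
      rw [Dm_mv ι hK D T₁ hm.1 hm.2 0, map_zero, smul_zero]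
      rw [sub_mw]
      have e : mw p i c (2 - 2) (2 - 2) = 0 := by
        unfold mw
        rw [show (2 - 2 : Fin 3) = 0 from rfl]
        simp
      rw [e, Nat.choose_eq_zero_of_lt (by omega), Nat.cast_zero, zero_smul]
      rfl
    obtain ⟨κ, hκ⟩ := ufix ι hK D T₂ hu
    have h2 : ∀ d, B.repr (J (evc ι p i φ₁ c 2 2)) (d, 2, 2) = κ d := by
      intro d
      rw [hκ, map_sum, Finsupp.finsetSum_apply, Finset.sum_eq_single d]
      · rw [map_smul, ← hB, Module.Basis.repr_self]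
        simp
      · intro d' _ hne
        rw [map_smul, ← hB, Module.Basis.repr_self]
        simp only [Finsupp.smul_apply, smul_eq_mul]
        rw [Finsupp.single_eq_of_ne, mul_zero]
        intro h3
        rw [Prod.mk.injEq] at h3
        exact hne h3.1.symm
      · intro hh
        exact absurd (Finset.mem_univ _) hh
    have h3 : ∀ d, κ d ≠ 0 → ((Fintype.card K - 1 : ℕ) : ℤ) ∣ (p : ℤ) ^ n * W p i c 2 2 - W p i d 2 2 := by
      intro d hd
      exact comp_wt ι hK D T₂ (hw c 2 2) hB (d, 2, 2) (by rw [h2]; exact hd)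
    obtain ⟨d, hd⟩ : ∃ d, κ d ≠ 0 := by
      by_contra hc
      push Not at hc
      have h4 : J (evc ι p i φ₁ c 2 2) = 0 := by
        rw [hκ]
        exact Finset.sum_eq_zero fun d _ => by rw [hc d, zero_smul]
      have h5 := hJ _ h4
      rw [← hB₁] at h5
      exact B₁.ne_zero _ h5
    refine ⟨d, κ d, ?_, h3 d hd⟩
    rw [hκ, Finset.sum_eq_single d]
    · intro d' _ hne
      by_cases h0 : κ d' = 0
      · rw [h0, zero_smul]
      · exfalso
        apply hne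
        apply D.W_top
        rw [← hK]
        have h6 := dvd_sub (h3 d hd) (h3 d' h0)
        rwa [sub_sub_sub_cancel_left] at h6
    · intro hh
      exact absurd (Finset.mem_univ _) hh
  choose π κ hπ hπW using h1
  refine ⟨π, fun c x y => ?_⟩
  have hW := D.perm (n := n) (π := π) (by rw [← hK]; exact hπW) c x y
  rw [← hK] at hW
  -- the submodule
  obtain ⟨N, hN⟩ : ∃ N : Submodule k V₁, ∀ v, v ∈ N ↔ J v ∈ LinearMap.range (φ₂ (π c)) :=
    ⟨(LinearMap.range (φ₂ (π c))).comap J, fun v => Iff.rfl⟩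
  have h2 : evc ι p i φ₁ c x y ∈ N := by
    refine gen ι hK D T₁ (fun g v hv => ?_) ?_ x y
    · rw [hN] at hv ⊢
      rw [hJρ]
      exact range_inv ι hK D T₂ _ _ hv
    · rw [hN, hπ]
      exact Submodule.smul_mem _ _ (evc_mem ι hK D φ₂ _ _ _)
  rw [hN] at h2
  obtain ⟨κ', hκ'⟩ := range_eq ι hK D φ₂ h2
  have h3 : ∀ z : Fin 3 × Fin 3, B.repr (J (evc ι p i φ₁ c x y)) (π c, z.1, z.2) = κ' z := by
    intro z
    rw [hκ', map_sum, Finsupp.finsetSum_apply, Finset.sum_eq_single z]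
    · rw [map_smul, ← hB, Module.Basis.repr_self]
      simp
    · intro z' _ hne
      rw [map_smul, ← hB, Module.Basis.repr_self]
      simp only [Finsupp.smul_apply, smul_eq_mul]
      rw [Finsupp.single_eq_of_ne, mul_zero]
      intro h3
      rw [Prod.mk.injEq, Prod.mk.injEq] at h3
      exact hne (Prod.ext h3.2.1.symm h3.2.2.symm)
    · intro hh
      exact absurd (Finset.mem_univ _) hh
  refine ⟨κ' (x, y), ?_⟩
  nth_rewrite 1 [hκ']
  rw [Finset.sum_eq_single (x, y)]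
  · intro z _ hne
    by_cases h0 : κ' z = 0
    · rw [h0, zero_smul]
    · exfalso
      apply hne
      have h4 := comp_wt ι hK D T₂ (hw c x y) hB (π c, z.1, z.2) (by rw [h3]; exact h0)
      have h5 := dvd_sub h4 hW
      rw [sub_sub_sub_cancel_left, hK] at h5
      obtain ⟨h6, h7⟩ := D.W_inj h5
      exact Prod.ext h6.symm h7.symm
  · intro hh
    exact absurd (Finset.mem_univ _) hh

end Cfsg.Agent.R2.H14.T
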