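import Cfsg.Agent.R2.H14.T.TB

/-!
# T-type: the decomposition (helper14)

`exists_TT` : three submodules isomorphic to `V_{b c}` in a module of dimension 27 give the structure `TT`.
-/

set_option autoImplicit false
set_option linter.unusedSectionVars false

namespace Cfsg.Agent.R2.H14.T

open Matrix Cfsg.Agent.H943.SL2Rel Cfsg.Agent.H943.SL2Mod Cfsg.Agent.H943.RepAdd Cfsg.Agent.R2.H28.SL2

universe u v w

variable {k : Type u} [Field k] [DecidableEq k] [IsAlgClosed k] {K : Type w} [Field K] [Fintype K] [DecidableEq K]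
  (ι : K →+* k)
variable {p : ℕ} [Fact p.Prime] [CharP k p] [CharP K p] {i : Fin 3 → ℕ}
variable {V : Type v} [AddCommGroup V] [Module k V] (ρ : Representation k (SpecialLinearGroup (Fin 2) K) V)
variable {a : ℕ} (hK : Fintype.card K = p ^ a) (D : Dg3 p a i)

/-- factors of submodules -/
theorem mem_cf_of_le [FiniteDimensional k V] {X W : Submodule k V} (hX : ∀ g, ∀ x ∈ X, ρ g x ∈ X)
    (hW : ∀ g, ∀ x ∈ W, ρ g x ∈ W) (hXW : X ≤ W) {b : ℕ} (h : IsV ι p (subRep ρ X hX) b) :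
    b ∈ cf (Sy.{u, v, w} ι p) (subRep ρ W hW) := by
  have hX' : ∀ g, ∀ x ∈ X.comap W.subtype, subRep ρ W hW g x ∈ X.comap W.subtype := fun g x hx => hX g x hx
  have h1 : IsV ι p (subRep (subRep ρ W hW) (X.comap W.subtype) hX') b :=
    IsV.iso ι p (Submodule.comapSubtypeEquivOfLe hXW).symm (fun g x => rfl) h
  have h2 : cf (Sy.{u, v, w} ι p) (subRep (subRep ρ W hW) (X.comap W.subtype) hX') = {b} := cf_irr _ h1
  have h3 := cf_sub_le (Sy.{u, v, w} ι p) (subRep ρ W hW) (X.comap W.subtype) hX'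
  rw [h2] at h3
  exact Multiset.singleton_le.1 h3

include hK D in
theorem exists_TT [FiniteDimensional k V] (hdim : Module.finrank k V = 27) (X : Fin 3 → Submodule k V)
    (hX : ∀ c g, ∀ x ∈ X c, ρ g x ∈ X c) (hV : ∀ c, IsV ι p (subRep ρ (X c) (hX c)) (bw p i c)) :
    ∃ φ : ∀ c : Fin 3, Vb ι (bw p i c) →ₗ[k] V, TT ι p i ρ φ ∧ (∀ c, LinearMap.range (φ c) = X c) ∧
      (⨆ c, X c) = ⊤ := by
  obtain ⟨W, hWdef⟩ : ∃ W : Submodule k V, W = ⨆ c, X c := ⟨_, rfl⟩
  have hXW : ∀ c, X c ≤ W := fun c => by rw [hWdef]; exact le_iSup X c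
  have hW : ∀ g, ∀ x ∈ W, ρ g x ∈ W := by
    intro g
    have h1 : W ≤ W.comap (ρ g) := by
      nth_rewrite 1 [hWdef]
      exact iSup_le fun c x hx => hXW c (hX c g x hx)
    exact fun x hx => h1 hx
  have hm := fun c => mem_cf_of_le ι ρ (hX c) hW (hXW c) (hV c)
  have hpa : 1 ≤ p ^ a := Nat.one_le_pow _ _ (by have := D.three; omega)
  have h27 : 27 ≤ Module.finrank k W := by
    rw [(isMult_cf ι p hK (subRep ρ W hW)).dim]
    have h1 : (Finset.univ : Finset (Fin 3)).image (bw p i) ⊆ Finset.range (p ^ a) := by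
      intro b hb
      obtain ⟨c, -, rfl⟩ := Finset.mem_image.1 hb
      rw [Finset.mem_range]
      have := D.bw_lt c
      omega
    refine le_trans ?_ (Finset.sum_le_sum_of_subset h1)
    rw [Finset.sum_image (fun c _ d _ h => D.bw_inj h)]
    have h2 : ∀ c ∈ (Finset.univ : Finset (Fin 3)), 9 ≤
        (cf (Sy.{u, v, w} ι p) (subRep ρ W hW)).count (bw p i c) * (Bf k (bw p i c)).card := by
      intro c _
      rw [D.card_Bf]
      have h3 : 1 ≤ (cf (Sy.{u, v, w} ι p) (subRep ρ W hW)).count (bw p i c) := Multiset.one_le_count_iff_mem.2 (hm c)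
      omega
    have h3 := Finset.sum_le_sum h2
    rw [Finset.sum_const, Finset.card_univ, Fintype.card_fin] at h3
    exact h3
  have hWtop : W = ⊤ := by
    apply Submodule.eq_top_of_finrank_eq
    have := Submodule.finrank_le W
    omega
  choose hb ψ hψ using hV
  refine ⟨fun c => (X c).subtype ∘ₗ (ψ c : Vb ι (bw p i c) →ₗ[k] X c), ⟨?_, ?_⟩, ?_, by rw [← hWdef, hWtop]⟩
  · intro c g x y hy
    have h1 : y = RB ι p (hb c) g x := Subtype.ext hy
    show (ψ c y : V) = ρ g (ψ c x : V)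
    rw [h1, hψ]
    rfl
  · obtain ⟨e, he⟩ : ∃ e : Fin 3 × Fin 3 × Fin 3 → V, e = fun x => evc ι p i
      (fun c => (X c).subtype ∘ₗ (ψ c : Vb ι (bw p i c) →ₗ[k] X c)) x.1 x.2.1 x.2.2 := ⟨_, rfl⟩
    have hspan : ⊤ ≤ Submodule.span k (Set.range e) := by
      rw [← hWtop, hWdef]
      refine iSup_le fun c x hx => ?_
      obtain ⟨κ, hκ⟩ := exists_sum ι hK D c ((ψ c).symm ⟨x, hx⟩)
      have h1 : x = (ψ c ((ψ c).symm ⟨x, hx⟩) : V) := by rw [LinearEquiv.apply_symm_apply]
      rw [h1, hκ, map_sum, Submodule.coe_sum]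
      refine sum_mem fun y _ => ?_
      rw [map_smul, Submodule.coe_smul]
      exact Submodule.smul_mem _ _ (Submodule.subset_span ⟨(c, y.1, y.2), by rw [he]; rfl⟩)
    have hcard : Fintype.card (Fin 3 × Fin 3 × Fin 3) = Module.finrank k V := by
      rw [hdim]
      rfl
    refine ⟨basisOfTopLeSpanOfCardEqFinrank e hspan hcard, fun c x y => ?_⟩
    rw [coe_basisOfTopLeSpanOfCardEqFinrank, he]
  · intro c
    rw [LinearMap.range_comp, LinearEquiv.range, Submodule.map_top, Submodule.range_subtype]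

end Cfsg.Agent.R2.H14.T
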