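import Cfsg.Agent.R2.H28.SL2.Dual
import Cfsg.Agent.R2.H14.T.TBX
import Cfsg.Agent.R2.H14.T.RatB
import Cfsg.Agent.R2.H14.T.Fin

/-!
# T-type: the dual module (helper14)

`exists_dual` : the dual module of a module of type `TT` is of type `TT`, with the dual basis up to scalars.
-/

set_option autoImplicit false
set_option linter.unusedSectionVars false

namespace Cfsg.Agent.R2.H14.T

open Matrix Cfsg.Agent.H943.SL2Rel Cfsg.Agent.H943.SL2Mod Cfsg.Agent.H943.RepAdd Cfsg.Agent.R2.H28.SL2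

universe u v w

theorem wt_sub : ∀ x : Fin 3, wt (2 - x) = - wt x := by decide

theorem W_neg (p : ℕ) (i : Fin 3 → ℕ) (c x y : Fin 3) : W p i c (2 - x) (2 - y) = - W p i c x y := by
  unfold W
  rw [wt_sub, wt_sub]
  ring

variable {k : Type u} [Field k] [DecidableEq k] {K : Type w} [Field K] [Fintype K] [DecidableEq K] (ι : K →+* k)
variable {p : ℕ} [Fact p.Prime] [CharP k p] [CharP K p] {i : Fin 3 → ℕ}
variable {V : Type v} [AddCommGroup V] [Module k V] {ρ : Representation k (SpecialLinearGroup (Fin 2) K) V}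
variable {a : ℕ} (hK : Fintype.card K = p ^ a) (D : Dg3 p a i)

include hK D

/-- the components of the vectors of `range (φ d)` -/
theorem rng0 {φ : ∀ c : Fin 3, Vb ι (bw p i c) →ₗ[k] V} {B : Module.Basis (Fin 3 × Fin 3 × Fin 3) k V}
    (hB : ∀ c x y, B (c, x, y) = evc ι p i φ c x y) {v : V} {d : Fin 3} (hv : v ∈ LinearMap.range (φ d)) {c : Fin 3}
    (hcd : d ≠ c) (x y : Fin 3) : B.repr v (c, x, y) = 0 := by
  obtain ⟨κ, hκ⟩ := range_eq ι hK D φ hv
  rw [hκ, map_sum, Finsupp.finsetSum_apply, Finset.sum_eq_zero]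
  intro z _
  rw [map_smul, ← hB, Module.Basis.repr_self]
  simp only [Finsupp.smul_apply, smul_eq_mul]
  rw [Finsupp.single_eq_of_ne, mul_zero]
  intro h3
  rw [Prod.mk.injEq] at h3
  exact hcd h3.1.symm

/-- the components are isomorphic to `V_b` -/
theorem TT.isV {φ : ∀ c : Fin 3, Vb ι (bw p i c) →ₗ[k] V} (T : TT ι p i ρ φ) (c : Fin 3) :
    IsV ι p (subRep ρ (LinearMap.range (φ c)) fun g _ hv => range_inv ι hK D T c g hv) (bw p i c) := by
  have hb : bw p i c ≤ Fintype.card K - 1 := by rw [hK]; exact (D.bw_lt c).le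
  refine ⟨hb, LinearEquiv.ofInjective (φ c) (T.inj ι hK D c), fun g x => ?_⟩
  apply Subtype.ext
  show φ c (RB ι p hb g x) = ρ g (φ c x)
  exact T.eqv c g x _ rfl

variable [IsAlgClosed k] {V' : Type v} [AddCommGroup V'] [Module k V']
  {ρ' : Representation k (SpecialLinearGroup (Fin 2) K) V'} {P : V →ₗ[k] V' →ₗ[k] k}

/-- **the dual module** -/
theorem exists_dual [FiniteDimensional k V'] (Du : Dul ρ ρ' P)
    {φ : ∀ c : Fin 3, Vb ι (bw p i c) →ₗ[k] V} (T : TT ι p i ρ φ) :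
    ∃ φ' : ∀ c : Fin 3, Vb ι (bw p i c) →ₗ[k] V', TT ι p i ρ' φ' ∧
      ∀ c x y c' x' y', P (evc ι p i φ c x y) (evc ι p i φ' c' x' y') ≠ 0 → c' = c ∧ x' = 2 - x ∧ y' = 2 - y := by
  obtain ⟨B, hB⟩ := T.bas
  have hfin : FiniteDimensional k V := Module.Basis.finiteDimensional_of_finite B
  have hdim : Module.finrank k V' = 27 := by
    rw [← Du.finrank_eq, Module.finrank_eq_card_basis B]
    rfl
  obtain ⟨X, hXdef⟩ : ∃ X : Fin 3 → Submodule k V, X = fun c => LinearMap.range (φ c) := ⟨_, rfl⟩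
  have hX : ∀ c g, ∀ x ∈ X c, ρ g x ∈ X c := by
    intro c g x hx
    rw [hXdef] at hx ⊢
    exact range_inv ι hK D T c g hx
  have hXV : ∀ c, IsV ι p (subRep ρ (X c) (hX c)) (bw p i c) := by
    subst hXdef
    intro c
    exact T.isV ι hK D c
  have hW : ∀ c g, ∀ x ∈ X (c + 1) ⊔ X (c + 2), ρ g x ∈ X (c + 1) ⊔ X (c + 2) := by
    intro c g x hx
    obtain ⟨y, hy, z, hz, rfl⟩ := Submodule.mem_sup.1 hx
    rw [map_add]
    exact Submodule.add_mem_sup (hX _ g y hy) (hX _ g z hz)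
  have hbot : ∀ c x, x ∈ X c → x ∈ X (c + 1) ⊔ X (c + 2) → x = 0 := by
    intro c x hx hx'
    obtain ⟨y, hy, z, hz, hyz⟩ := Submodule.mem_sup.1 hx'
    rw [hXdef] at hx hy hz
    apply B.ext_elem
    rintro ⟨d, m, n⟩
    rw [map_zero, Finsupp.zero_apply]
    by_cases hd : c = d
    · rw [← hyz, map_add, Finsupp.add_apply, rng0 ι hK D hB hy (fun h => ne01 c (by rw [h, hd])),
        rng0 ι hK D hB hz (fun h => ne02 c (by rw [h, hd])), add_zero]
    · exact rng0 ι hK D hB hx hd m n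
  have htop : ∀ c (v : V), ∃ y ∈ X c, ∃ z ∈ X (c + 1) ⊔ X (c + 2), v = y + z := by
    intro c v
    have h1 : X c ⊔ (X (c + 1) ⊔ X (c + 2)) = ⊤ := by
      rw [eq_top_iff, ← B.span_eq, Submodule.span_le]
      rintro _ ⟨⟨d, m, n⟩, rfl⟩
      have h2 : B (d, m, n) ∈ X d := by
        rw [hXdef, hB]
        exact evc_mem ι hK D φ _ _ _
      have h6 : ∀ d c : Fin 3, d = c ∨ d = c + 1 ∨ d = c + 2 := by decide
      rcases h6 d c with h | h | h
      · rw [← h]
        exact Submodule.mem_sup_left h2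
      · rw [← h]
        exact Submodule.mem_sup_right (Submodule.mem_sup_left h2)
      · rw [← h]
        exact Submodule.mem_sup_right (Submodule.mem_sup_right h2)
    have h2 : v ∈ X c ⊔ (X (c + 1) ⊔ X (c + 2)) := by rw [h1]; trivial
    obtain ⟨y, hy, z, hz, h⟩ := Submodule.mem_sup.1 h2
    exact ⟨y, hy, z, hz, h.symm⟩
  have hX' : ∀ c g, ∀ y ∈ orth P (X (c + 1) ⊔ X (c + 2)), ρ' g y ∈ orth P (X (c + 1) ⊔ X (c + 2)) :=
    fun c => Du.orth_inv (hW c)
  have hD : ∀ c, Dul (subRep ρ (X c) (hX c)) (subRep ρ' (orth P (X (c + 1) ⊔ X (c + 2))) (hX' c))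
      (P.domRestrict₁₂ (X c) (orth P (X (c + 1) ⊔ X (c + 2)))) := by
    intro c
    refine ⟨fun g x y => Du.inv g x y, fun x hx => ?_, fun y hy => ?_⟩
    · apply Subtype.ext
      refine hbot c x x.2 (Du.orth_orth _ _ fun y hy => ?_)
      exact hx ⟨y, hy⟩
    · apply Subtype.ext
      refine Du.right _ fun x => ?_
      obtain ⟨x₁, hx₁, x₂, hx₂, rfl⟩ := htop c x
      rw [map_add, LinearMap.add_apply, show P x₂ y = 0 from y.2 x₂ hx₂, add_zero]
      exact hy ⟨x₁, hx₁⟩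
  have hV' : ∀ c, IsV ι p (subRep ρ' (orth P (X (c + 1) ⊔ X (c + 2))) (hX' c)) (bw p i c) :=
    fun c => IsV.dual ι p (hXV c) (hD c)
  obtain ⟨φ', T', hr, -⟩ := exists_TT ι ρ' hK D hdim (fun c => orth P (X (c + 1) ⊔ X (c + 2))) hX' hV'
  refine ⟨φ', T', fun c x y c' x' y' hne => ?_⟩
  have h1 : evc ι p i φ' c' x' y' ∈ orth P (X (c' + 1) ⊔ X (c' + 2)) := by
    rw [← hr c']
    exact evc_mem ι hK D φ' _ _ _
  have h2 : evc ι p i φ c x y ∈ X c := by
    rw [hXdef]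
    exact evc_mem ι hK D φ _ _ _
  have hc : c' = c := by
    have h6 : ∀ c c' : Fin 3, c = c' ∨ c = c' + 1 ∨ c = c' + 2 := by decide
    rcases h6 c c' with h7 | h7 | h7
    · exact h7.symm
    · exact absurd (h1 _ (Submodule.mem_sup_left (by rw [← h7]; exact h2))) hne
    · exact absurd (h1 _ (Submodule.mem_sup_right (by rw [← h7]; exact h2))) hne
  refine ⟨hc, ?_⟩
  rw [hc] at hne
  have h3 : ∀ t : Kˣ, ι (t : K) ^ (W p i c x' y' - W p i c (2 - x) (2 - y)) = ι (t : K) ^ (0 : ℤ) := by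
    intro t
    have h0 : ι (t : K) ≠ 0 := (map_ne_zero ι).2 t.ne_zero
    have h4 := Du.inv (h t) (evc ι p i φ c x y) (evc ι p i φ' c x' y')
    rw [ev_h ι hK D T, ev_h ι hK D T', map_smul, map_smul, LinearMap.smul_apply, smul_smul, smul_eq_mul] at h4
    have h5 := mul_right_cancel₀ hne (h4.trans (one_mul _).symm)
    rw [W_neg, sub_neg_eq_add, zpow_add₀ h0, h5, zpow_zero]
  have h4 := dvd_of_zpow ι h3
  rw [sub_zero, hK] at h4
  exact D.W_inj h4

end Cfsg.Agent.R2.H14.T
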