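import Cfsg.Agent.R2.H28.SL2.Ops
import Cfsg.Agent.R2.H28.SL2.Dig

/-!
# T-type: the operators `D_{p^i}` are derivations of the invariant trilinear forms (helper14)

`der` : all the operators `D_m` with a digit of `m` greater than 2 vanish (`p ≥ 5`); then `D_{p^i}` is a derivation of every
invariant trilinear form.
-/

set_option autoImplicit false
set_option linter.unusedSectionVars false

namespace Cfsg.Agent.R2.H14.T

open Matrix Cfsg.Agent.H943.SL2Rel Cfsg.Agent.R2.H28.SL2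

/-- all the digits are at most 2 -/
def Sm (p n : ℕ) : Prop := ∀ l, n / p ^ l % p ≤ 2

theorem Sm.bound {p : ℕ} (hp : 1 < p) (i : ℕ) : ∀ {n : ℕ}, Sm p n → n < p ^ i → n * (p - 1) ≤ 2 * (p ^ i - 1) := by
  induction i with
  | zero =>
    intro n _ hn
    rw [pow_zero, Nat.lt_one_iff] at hn
    rw [hn, zero_mul]
    exact Nat.zero_le _
  | succ i ih =>
    intro n hs hn
    have h1 : Sm p (n / p) := by
      intro l
      have := hs (l + 1)
      rwa [pow_succ', ← Nat.div_div_eq_div_mul] at this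
    have h2 : n / p < p ^ i := by
      rw [Nat.div_lt_iff_lt_mul (by omega), ← pow_succ]
      exact hn
    have h3 := ih h1 h2
    have h4 := Nat.div_add_mod n p
    have h5 : n % p ≤ 2 := by
      have := hs 0
      rwa [pow_zero, Nat.div_one] at this
    obtain ⟨P, rfl⟩ : ∃ P, p = P + 1 := ⟨p - 1, by omega⟩
    rw [Nat.add_sub_cancel] at h3 ⊢
    have h6 : 1 ≤ (P + 1) ^ i := Nat.one_le_pow _ _ (by omega)
    obtain ⟨X, hX⟩ : ∃ X, (P + 1) ^ i = X + 1 := ⟨(P + 1) ^ i - 1, by omega⟩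
    rw [pow_succ, hX]
    rw [hX, Nat.add_sub_cancel] at h3
    obtain ⟨d, hd⟩ : ∃ d, d = n / (P + 1) := ⟨_, rfl⟩
    obtain ⟨r, hr⟩ : ∃ r, r = n % (P + 1) := ⟨_, rfl⟩
    rw [← hd, ← hr] at h4
    rw [← hd] at h3
    rw [← hr] at h5
    have h7 : (X + 1) * (P + 1) - 1 = X * P + X + P := by
      have : (X + 1) * (P + 1) = X * P + X + P + 1 := by ring
      omega
    rw [h7, ← h4]
    nlinarith

theorem Sm.add_lt {p : ℕ} (hp : 5 ≤ p) {i m n : ℕ} (hm : Sm p m) (hn : Sm p n) (hm' : m < p ^ i) (hn' : n < p ^ i) :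
    m + n ≤ p ^ i - 1 := by
  have h1 := hm.bound (by omega) i hm'
  have h2 := hn.bound (by omega) i hn'
  by_contra hc
  have h3 : p ^ i ≤ m + n := by omega
  have h4 : 1 ≤ p ^ i := Nat.one_le_pow _ _ (by omega)
  obtain ⟨P, rfl⟩ : ∃ P, p = P + 5 := ⟨p - 5, by omega⟩
  obtain ⟨X, hX⟩ : ∃ X, (P + 5) ^ i = X + 1 := ⟨(P + 5) ^ i - 1, by omega⟩
  rw [hX] at h3
  rw [hX, Nat.add_sub_cancel] at h1 h2
  have h5 : (m + n) * (P + 4) ≤ 4 * X := by
    have e : P + 5 - 1 = P + 4 := by omega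
    rw [e] at h1 h2
    nlinarith
  have h6 : (X + 1) * (P + 4) ≤ (m + n) * (P + 4) := Nat.mul_le_mul_right _ h3
  nlinarith

theorem not_sm_of {p m : ℕ} (h : ∃ l, 2 < m / p ^ l % p) : ¬ Sm p m := by
  obtain ⟨l, hl⟩ := h
  intro h
  have := h l
  omega

variable {k : Type*} [Field k] {F : Type*} [Field F] [Fintype F] [DecidableEq F] (ι : F →+* k)
variable {V : Type*} [AddCommGroup V] [Module k V] (ρ : Representation k (SpecialLinearGroup (Fin 2) F) V)

/-- `D_m` with `D_0 = 1` -/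
noncomputable def Dz (m : ℕ) : V →ₗ[k] V := if m = 0 then LinearMap.id else Dm ι ρ m

theorem Dz_zero (x : V) : Dz ι ρ 0 x = x := by
  unfold Dz
  rw [if_pos rfl]
  rfl

theorem Dz_pos {m : ℕ} (hm : m ≠ 0) (x : V) : Dz ι ρ m x = Dm ι ρ m x := by
  unfold Dz
  rw [if_neg hm]

variable (p : ℕ) [Fact p.Prime] [CharP k p] [CharP F p]

include p in
theorem u_eq' (t : F) (x : V) : ρ (u t) x = ∑ m ∈ Finset.range (Fintype.card F), ι t ^ m • Dz ι ρ m x := by
  have hq := one_lt (F := F)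
  rw [u_eq ι ρ p t x, Finset.range_eq_Ico, Finset.sum_eq_sum_Ico_succ_bot (by omega), pow_zero, one_smul, Dz_zero]
  congr 1
  have h1 : Finset.Ico (0 + 1) (Fintype.card F) = Finset.Icc 1 (Fintype.card F - 1) := by
    ext m
    rw [Finset.mem_Ico, Finset.mem_Icc]
    omega
  rw [h1]
  refine Finset.sum_congr rfl fun m hm => ?_
  rw [Finset.mem_Icc] at hm
  rw [Dz_pos ι ρ (by omega)]

variable (hp5 : 5 ≤ p) {a : ℕ} (hF : Fintype.card F = p ^ a)
  (hD : ∀ m, 1 ≤ m → m ≤ Fintype.card F - 1 → ¬ Sm p m → Dm ι ρ m = 0) (T : V →ₗ[k] V →ₗ[k] V →ₗ[k] k)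
  (hT : ∀ g x y z, T (ρ g x) (ρ g y) (ρ g z) = T x y z)

include hp5 hF hD hT

/-- **derivations** -/
theorem der {i : ℕ} (hi : i < a) (x y z : V) :
    T (Dm ι ρ (p ^ i) x) y z + T x (Dm ι ρ (p ^ i) y) z + T x y (Dm ι ρ (p ^ i) z) = 0 := by
  have hp : p.Prime := Fact.out
  have hq := one_lt (F := F)
  obtain ⟨Q, hQ⟩ : ∃ Q, Q = Fintype.card F - 1 := ⟨_, rfl⟩
  obtain ⟨N, hN⟩ : ∃ N, N = p ^ i := ⟨_, rfl⟩
  have hN1 : 1 ≤ N := by rw [hN]; exact Nat.one_le_pow _ _ hp.pos
  have hNQ : N < Q := by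
    have h1 : 5 * p ^ i ≤ p ^ a := by
      calc 5 * p ^ i ≤ p * p ^ i := Nat.mul_le_mul_right _ hp5
        _ = p ^ (i + 1) := by rw [pow_succ, mul_comm]
        _ ≤ p ^ a := Nat.pow_le_pow_right hp.pos hi
    omega
  have hcard : Fintype.card F = Q + 1 := by omega
  have hodd : (-1 : k) ^ N = -1 := by
    rw [hN]
    exact ((hp.odd_of_ne_two (by omega)).pow).neg_one_pow
  rw [← hN]
  -- the second way
  have hB : ∀ t : F, T (ρ (u t) x) (ρ (u t) y) z =
      ∑ m ∈ Finset.range (Q + 1), ((-1) ^ m * ι t ^ m) * T x y (Dz ι ρ m z) := by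
    intro t
    have h1 := hT (u t) x y (ρ (u (-t)) z)
    rw [← Module.End.mul_apply (ρ (u t)) (ρ (u (-t))), ← map_mul, ← u_add, add_neg_cancel, u_zero, map_one,
      Module.End.one_apply] at h1
    rw [h1, u_eq' ι ρ p, map_sum, hcard]
    refine Finset.sum_congr rfl fun m _ => ?_
    rw [map_smul, smul_eq_mul, map_neg, neg_pow]
  have hS1 : ∑ t : F, ι t ^ (Q - N) * T (ρ (u t) x) (ρ (u t) y) z = T x y (Dm ι ρ N z) := by
    have h1 : ∀ t : F, ι t ^ (Q - N) * T (ρ (u t) x) (ρ (u t) y) z =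
        ∑ m ∈ Finset.range (Q + 1), ((-1) ^ m * T x y (Dz ι ρ m z)) * ι t ^ (Q - N + m) := by
      intro t
      rw [hB t, Finset.mul_sum]
      refine Finset.sum_congr rfl fun m _ => ?_
      rw [pow_add]
      ring
    rw [Finset.sum_congr rfl fun t _ => h1 t, Finset.sum_comm]
    rw [Finset.sum_eq_single N]
    · rw [← Finset.mul_sum, psum ι (by omega), if_pos (by omega), hodd, Dz_pos ι ρ (by omega)]
      ring
    · intro m hm hmN
      rw [Finset.mem_range] at hm
      rw [← Finset.mul_sum, psum ι (by omega), if_neg (by omega), mul_zero]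
    · intro h
      exact absurd (Finset.mem_range.2 (by omega)) h
  -- the first way
  have hsm : ∀ m < Q + 1, ¬ Sm p m → ∀ x, Dz ι ρ m x = 0 := by
    intro m hm hs x
    have hm0 : m ≠ 0 := by
      rintro rfl
      apply hs
      intro l
      rw [Nat.zero_div, Nat.zero_mod]
      omega
    rw [Dz_pos ι ρ hm0, hD m (by omega) (by omega) hs, LinearMap.zero_apply]
  have hS2 : ∑ t : F, ι t ^ (Q - N) * T (ρ (u t) x) (ρ (u t) y) z = -(T x (Dm ι ρ N y) z + T (Dm ι ρ N x) y z) := by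
    have h1 : ∀ t : F, ι t ^ (Q - N) * T (ρ (u t) x) (ρ (u t) y) z =
        ∑ mn ∈ Finset.range (Q + 1) ×ˢ Finset.range (Q + 1),
          T (Dz ι ρ mn.1 x) (Dz ι ρ mn.2 y) z * ι t ^ (Q - N + (mn.1 + mn.2)) := by
      intro t
      rw [u_eq' ι ρ p t x, u_eq' ι ρ p t y, hcard, Finset.sum_product, map_sum T, LinearMap.sum_apply,
        LinearMap.sum_apply, Finset.mul_sum]
      refine Finset.sum_congr rfl fun m _ => ?_
      rw [map_smul, LinearMap.smul_apply, LinearMap.smul_apply, map_sum, LinearMap.sum_apply, Finset.smul_sum,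
        Finset.mul_sum]
      refine Finset.sum_congr rfl fun n _ => ?_
      rw [map_smul, LinearMap.smul_apply, smul_eq_mul, smul_eq_mul, pow_add, pow_add]
      ring
    rw [Finset.sum_congr rfl fun t _ => h1 t, Finset.sum_comm]
    have h2 : ∀ mn ∈ Finset.range (Q + 1) ×ˢ Finset.range (Q + 1),
        ∑ t : F, T (Dz ι ρ mn.1 x) (Dz ι ρ mn.2 y) z * ι t ^ (Q - N + (mn.1 + mn.2)) =
        (if mn = (0, N) then -(T x (Dm ι ρ N y) z) else 0) + (if mn = (N, 0) then -(T (Dm ι ρ N x) y z) else 0) := by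
      rintro ⟨m, n⟩ hmn
      rw [Finset.mem_product, Finset.mem_range, Finset.mem_range] at hmn
      obtain ⟨hm, hn⟩ := hmn
      simp only at hm hn
      rw [← Finset.mul_sum]
      show T (Dz ι ρ m x) (Dz ι ρ n y) z * ∑ t : F, ι t ^ (Q - N + (m + n)) = _
      by_cases e1 : m = 0 ∧ n = N
      · obtain ⟨rfl, rfl⟩ := e1
        rw [if_pos rfl, if_neg (by rintro h; rw [Prod.mk.injEq] at h; omega), psum ι (by omega), if_pos (by omega),
          Dz_zero, Dz_pos ι ρ (by omega)]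
        ring
      by_cases e2 : m = N ∧ n = 0
      · obtain ⟨rfl, rfl⟩ := e2
        rw [if_neg (by rintro h; rw [Prod.mk.injEq] at h; omega), if_pos rfl, psum ι (by omega), if_pos (by omega),
          Dz_zero, Dz_pos ι ρ (by omega)]
        ring
      rw [if_neg (by rintro h; rw [Prod.mk.injEq] at h; exact e1 h), if_neg (by rintro h; rw [Prod.mk.injEq] at h; exact e2 h),
        add_zero]
      by_cases s1 : Sm p m
      · by_cases s2 : Sm p n
        · have h3 : m + n ≤ p ^ a - 1 := s1.add_lt hp5 s2 (by omega) (by omega)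
          rw [psum ι (by omega)]
          split_ifs with h4
          · exfalso
            have h5 : m + n = N := by omega
            have h6 : m < p ^ i := by omega
            have h7 : n < p ^ i := by omega
            have h8 := s1.add_lt hp5 s2 h6 h7
            omega
          · rw [mul_zero]
        · rw [hsm n hn s2]
          simp
      · rw [hsm m hm s1]
        simp
    rw [Finset.sum_congr rfl h2, Finset.sum_add_distrib, Finset.sum_ite_eq', Finset.sum_ite_eq', if_pos (by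
      rw [Finset.mem_product, Finset.mem_range, Finset.mem_range]
      exact ⟨by simp, by simp; omega⟩), if_pos (by
      rw [Finset.mem_product, Finset.mem_range, Finset.mem_range]
      exact ⟨by simp; omega, by simp⟩)]
    ring
  rw [hS1] at hS2
  linear_combination hS2

/-- the lowering operators -/
theorem der' {i : ℕ} (hi : i < a) (x y z : V) :
    T (ρ w⁻¹ (Dm ι ρ (p ^ i) (ρ w x))) y z + T x (ρ w⁻¹ (Dm ι ρ (p ^ i) (ρ w y))) z +
      T x y (ρ w⁻¹ (Dm ι ρ (p ^ i) (ρ w z))) = 0 := by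
  have h1 := der ι ρ p hp5 hF hD T hT hi (ρ w x) (ρ w y) (ρ w z)
  have hw : ∀ v : V, ρ w (ρ w⁻¹ v) = v := by
    intro v
    rw [← Module.End.mul_apply, ← map_mul, mul_inv_cancel, map_one, Module.End.one_apply]
  rw [← hT w (ρ w⁻¹ (Dm ι ρ (p ^ i) (ρ w x))) y z, ← hT w x (ρ w⁻¹ (Dm ι ρ (p ^ i) (ρ w y))) z,
    ← hT w x y (ρ w⁻¹ (Dm ι ρ (p ^ i) (ρ w z))), hw, hw, hw]
  exact h1

end Cfsg.Agent.R2.H14.T
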