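import Mathlib

/-!
# T-type: trilinear forms invariant under three commuting Lie algebras `sl₂` (helper14)

`V` has the basis `e c a b` (`c, a, b : Fin 3`), `e c · ·` spans `V₂ ⊗ V₂` for the digits `c + 1`, `c + 2`. `tri_main`: if
the symmetric trilinear form `T` is invariant under the raising and lowering operators `E d`, `F d`, then it is invariant
under the torus `e c a b ↦ τ a (τ (2 - b))⁻¹ e c a b` with `τ 0 τ 1 τ 2 = 1`.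
-/

set_option autoImplicit false

namespace Cfsg.Agent.R2.H14.T

variable {k : Type*} [Field k]

theorem ne01 : ∀ c : Fin 3, ¬ c = c + 1 := by decide
theorem ne02 : ∀ c : Fin 3, ¬ c = c + 2 := by decide
theorem ne21 : ∀ c : Fin 3, ¬ c + 2 = c + 1 := by decide
theorem ne_0_11 : ∀ c : Fin 3, ¬ c = c + 1 + 1 := by decide
theorem eq_0_12 : ∀ c : Fin 3, c = c + 1 + 2 := by decide
theorem eq_0_21 : ∀ c : Fin 3, c = c + 2 + 1 := by decide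
theorem ne_1_12 : ∀ c : Fin 3, ¬ c + 1 = c + 1 + 2 := by decide
theorem ne_1_21 : ∀ c : Fin 3, ¬ c + 1 = c + 2 + 1 := by decide
theorem eq_1_22 : ∀ c : Fin 3, c + 1 = c + 2 + 2 := by decide
theorem eq_2_11 : ∀ c : Fin 3, c + 2 = c + 1 + 1 := by decide

/-- coefficients of the raising operator -/
def cE (k : Type*) [Field k] : Fin 3 → k := ![2, 1, 0]

/-- coefficients of the lowering operator -/
def cF (k : Type*) [Field k] : Fin 3 → k := ![0, -1, -2]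

/-- weights -/
def wt : Fin 3 → ℤ := ![-1, 0, 1]

variable {V : Type*} [AddCommGroup V] [Module k V]

/-- the action of raising and lowering operators on the basis -/
structure Ops (e : Fin 3 → Fin 3 → Fin 3 → V) (E F : Fin 3 → V →ₗ[k] V) : Prop where
  E1 : ∀ c a b, E (c + 1) (e c a b) = cE k a • e c (a + 1) b
  E2 : ∀ c a b, E (c + 2) (e c a b) = cE k b • e c a (b + 1)
  E0 : ∀ c a b, E c (e c a b) = 0
  F1 : ∀ c a b, F (c + 1) (e c a b) = cF k a • e c (a - 1) b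
  F2 : ∀ c a b, F (c + 2) (e c a b) = cF k b • e c a (b - 1)
  F0 : ∀ c a b, F c (e c a b) = 0

/-- the form is symmetric and invariant -/
structure Inv (T : V →ₗ[k] V →ₗ[k] V →ₗ[k] k) (E F : Fin 3 → V →ₗ[k] V) : Prop where
  s12 : ∀ x y z, T x y z = T y x z
  s23 : ∀ x y z, T x y z = T x z y
  iE : ∀ d x y z, T (E d x) y z + T x (E d y) z + T x y (E d z) = 0
  iF : ∀ d x y z, T (F d x) y z + T x (F d y) z + T x y (F d z) = 0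

variable {e : Fin 3 → Fin 3 → Fin 3 → V} {E F : Fin 3 → V →ₗ[k] V} {T : V →ₗ[k] V →ₗ[k] V →ₗ[k] k}

/-- the commutators -/
theorem Inv.iH (I : Inv T E F) (d : Fin 3) (x y z : V) :
    T (E d (F d x) - F d (E d x)) y z + T x (E d (F d y) - F d (E d y)) z + T x y (E d (F d z) - F d (E d z)) = 0 := by
  have h1 := I.iE d (F d x) y z
  have h2 := I.iE d x (F d y) z
  have h3 := I.iE d x y (F d z)
  have h4 := I.iF d (E d x) y z
  have h5 := I.iF d x (E d y) z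
  have h6 := I.iF d x y (E d z)
  simp only [map_sub, LinearMap.sub_apply]
  linear_combination h1 + h2 + h3 - h4 - h5 - h6

theorem cE_cF (a : Fin 3) : cF k a * cE k (a - 1) - cE k a * cF k (a + 1) = -(2 * (wt a : k)) := by
  fin_cases a
  · show (0 : k) * cE k (0 - 1) - 2 * cF k (0 + 1) = -(2 * ((-1 : ℤ) : k))
    rw [show (0 + 1 : Fin 3) = 1 from rfl]
    show (0 : k) * _ - 2 * (-1) = _
    push_cast
    ring
  · show (-1 : k) * cE k (1 - 1) - 1 * cF k (1 + 1) = -(2 * ((0 : ℤ) : k))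
    rw [show (1 - 1 : Fin 3) = 0 from rfl, show (1 + 1 : Fin 3) = 2 from rfl]
    show (-1 : k) * 2 - 1 * (-2) = _
    push_cast
    ring
  · show (-2 : k) * cE k (2 - 1) - 0 * cF k (2 + 1) = -(2 * ((1 : ℤ) : k))
    rw [show (2 - 1 : Fin 3) = 1 from rfl]
    show (-2 : k) * 1 - 0 * _ = _
    push_cast
    ring

/-- the weight of the basis vector for the digit `d` -/
def wd (d : Fin 3) (c a b : Fin 3) : ℤ := if d = c + 1 then wt a else if d = c + 2 then wt b else 0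

theorem Ops.H (O : Ops e E F) (d c a b : Fin 3) :
    E d (F d (e c a b)) - F d (E d (e c a b)) = (-(2 * (wd d c a b : k))) • e c a b := by
  have h3 : ∀ d c : Fin 3, d = c ∨ d = c + 1 ∨ d = c + 2 := by decide
  rcases h3 d c with rfl | rfl | rfl
  · rw [O.F0, O.E0, map_zero, map_zero, sub_zero]
    have h1 : wd d d a b = 0 := by
      unfold wd
      rw [if_neg (ne01 d), if_neg (ne02 d)]
    rw [h1, Int.cast_zero, mul_zero, neg_zero, zero_smul]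
  · rw [O.F1, O.E1, map_smul, map_smul, O.E1, O.F1, smul_smul, smul_smul, sub_add_cancel, add_sub_cancel_right,
      ← sub_smul, cE_cF]
    unfold wd
    rw [if_pos rfl]
  · rw [O.F2, O.E2, map_smul, map_smul, O.E2, O.F2, smul_smul, smul_smul, sub_add_cancel, add_sub_cancel_right,
      ← sub_smul, cE_cF]
    unfold wd
    rw [if_neg (ne21 c), if_pos rfl]

theorem small_zero (h2 : (2 : k) ≠ 0) (h3 : (3 : k) ≠ 0) {n : ℤ} (hn : -3 ≤ n) (hn' : n ≤ 3) (h : (n : k) = 0) :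
    n = 0 := by
  interval_cases n
  · exfalso
    push_cast at h
    exact h3 (neg_eq_zero.1 h)
  · exfalso
    push_cast at h
    exact h2 (neg_eq_zero.1 h)
  · exfalso
    push_cast at h
    exact one_ne_zero (neg_eq_zero.1 h)
  · rfl
  · exfalso
    push_cast at h
    exact one_ne_zero h
  · exfalso
    push_cast at h
    exact h2 h
  · exfalso
    push_cast at h
    exact h3 h

theorem wt_bd (a : Fin 3) : -1 ≤ wt a ∧ wt a ≤ 1 := by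
  revert a
  decide

theorem wt_zero : ∀ a : Fin 3, wt a = 0 → a = 1 := by decide

theorem wt_opp : ∀ a b : Fin 3, wt a + wt b = 0 → a = 2 - b := by decide

theorem wd_bd (d c a b : Fin 3) : -1 ≤ wd d c a b ∧ wd d c a b ≤ 1 := by
  revert d c a b
  decide

section

variable (O : Ops e E F) (I : Inv T E F) (h2 : (2 : k) ≠ 0) (h3 : (3 : k) ≠ 0)

include O I h2 h3

/-- the weights -/
theorem wd_zero {c₁ a₁ b₁ c₂ a₂ b₂ c₃ a₃ b₃ : Fin 3} (h : T (e c₁ a₁ b₁) (e c₂ a₂ b₂) (e c₃ a₃ b₃) ≠ 0) (d : Fin 3) :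
    wd d c₁ a₁ b₁ + wd d c₂ a₂ b₂ + wd d c₃ a₃ b₃ = 0 := by
  have h1 := I.iH d (e c₁ a₁ b₁) (e c₂ a₂ b₂) (e c₃ a₃ b₃)
  rw [O.H, O.H, O.H] at h1
  simp only [map_smul, LinearMap.smul_apply, smul_eq_mul] at h1
  have h4 : (2 : k) * ((wd d c₁ a₁ b₁ + wd d c₂ a₂ b₂ + wd d c₃ a₃ b₃ : ℤ) : k) *
      T (e c₁ a₁ b₁) (e c₂ a₂ b₂) (e c₃ a₃ b₃) = 0 := by
    push_cast
    linear_combination -h1
  have h5 := (mul_eq_zero.1 ((mul_eq_zero.1 h4).resolve_right h)).resolve_left h2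
  have b1 := wd_bd d c₁ a₁ b₁
  have b2 := wd_bd d c₂ a₂ b₂
  have b3 := wd_bd d c₃ a₃ b₃
  exact small_zero h2 h3 (by omega) (by omega) h5

omit O in
/-- the invariants of `V₂ ⊗ V₂ ⊗ V₂` : first digit -/
theorem one_one {f₁ f₂ f₃ : Fin 3 → V} {d : Fin 3} (e1 : ∀ a, E d (f₁ a) = cE k a • f₁ (a + 1))
    (e2 : ∀ a, E d (f₂ a) = cE k a • f₂ (a + 1)) (e3 : ∀ a, E d (f₃ a) = cE k a • f₃ (a + 1)) :
    T (f₁ 1) (f₂ 1) (f₃ 1) = 0 := by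
  have R : ∀ a b c, cE k a * T (f₁ (a + 1)) (f₂ b) (f₃ c) + cE k b * T (f₁ a) (f₂ (b + 1)) (f₃ c) +
      cE k c * T (f₁ a) (f₂ b) (f₃ (c + 1)) = 0 := by
    intro a b c
    have h1 := I.iE d (f₁ a) (f₂ b) (f₃ c)
    rw [e1, e2, e3] at h1
    simpa only [map_smul, LinearMap.smul_apply, smul_eq_mul] using h1
  have c0 : cE k 0 = 2 := rfl
  have c1 : cE k 1 = 1 := rfl
  have c2 : cE k 2 = 0 := rfl
  have a01 : (0 + 1 : Fin 3) = 1 := rfl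
  have a11 : (1 + 1 : Fin 3) = 2 := rfl
  have r1 := R 0 1 1
  have r2 := R 1 0 1
  have r3 := R 1 1 0
  have r4 := R 0 0 2
  have r5 := R 0 2 0
  have r6 := R 2 0 0
  rw [c0, c1, a01, a11] at r1 r2 r3
  rw [c0, c2, a01] at r4 r5 r6
  have h6 : (6 : k) ≠ 0 := by
    have : (6 : k) = 2 * 3 := by norm_num
    rw [this]
    exact mul_ne_zero h2 h3
  have h7 : (2 : k) * ((6 : k) * T (f₁ 1) (f₂ 1) (f₃ 1)) = 0 := by
    linear_combination 2 * r1 + 2 * r2 + 2 * r3 - r4 - r5 - r6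
  exact (mul_eq_zero.1 ((mul_eq_zero.1 h7).resolve_left h2)).resolve_left h6

/-- the mixed terms vanish -/
theorem mixed1 {c a₁ b₁ a₂ b₂ a₃ b₃ : Fin 3} : T (e c a₁ b₁) (e c a₂ b₂) (e (c + 1) a₃ b₃) = 0 := by
  by_contra h
  have h1 := wd_zero O I h2 h3 h c
  have w0 : ∀ a b, wd c c a b = 0 := by
    intro a b
    unfold wd
    rw [if_neg (ne01 c), if_neg (ne02 c)]
  have w1 : wd c (c + 1) a₃ b₃ = wt b₃ := by
    unfold wd
    rw [if_neg (ne_0_11 c), if_pos (eq_0_12 c)]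
  rw [w0, w0, w1, zero_add, zero_add] at h1
  obtain rfl : b₃ = 1 := wt_zero b₃ h1
  have h5 := I.iE c (e c a₁ b₁) (e c a₂ b₂) (e (c + 1) a₃ 0)
  have h6 := O.E2 (c + 1) a₃ 0
  rw [← eq_0_12, show (0 + 1 : Fin 3) = 1 from rfl] at h6
  rw [O.E0, O.E0, h6] at h5
  simp only [map_smul, LinearMap.zero_apply, map_zero, smul_eq_mul, zero_add] at h5
  exact h ((mul_eq_zero.1 h5).resolve_left h2)

theorem mixed2 {c a₁ b₁ a₂ b₂ a₃ b₃ : Fin 3} : T (e c a₁ b₁) (e c a₂ b₂) (e (c + 2) a₃ b₃) = 0 := by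
  by_contra h
  have h1 := wd_zero O I h2 h3 h c
  have w0 : ∀ a b, wd c c a b = 0 := by
    intro a b
    unfold wd
    rw [if_neg (ne01 c), if_neg (ne02 c)]
  have w1 : wd c (c + 2) a₃ b₃ = wt a₃ := by
    unfold wd
    rw [if_pos (eq_0_21 c)]
  rw [w0, w0, w1, zero_add, zero_add] at h1
  obtain rfl : a₃ = 1 := wt_zero a₃ h1
  have h5 := I.iE c (e c a₁ b₁) (e c a₂ b₂) (e (c + 2) 0 b₃)
  have h6 := O.E1 (c + 2) 0 b₃
  rw [← eq_0_21, show (0 + 1 : Fin 3) = 1 from rfl] at h6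
  rw [O.E0, O.E0, h6] at h5
  simp only [map_smul, LinearMap.zero_apply, map_zero, smul_eq_mul, zero_add] at h5
  exact h ((mul_eq_zero.1 h5).resolve_left h2)

omit O I h2 h3 in
theorem perm3 {τ : Fin 3 → k} (hτ : τ 0 * τ 1 * τ 2 = 1) {a b c : Fin 3} (h : wt a + wt b + wt c = 0)
    (h1 : ¬ (a = 1 ∧ b = 1 ∧ c = 1)) : τ a * τ b * τ c = 1 := by
  have key : ∀ a b c : Fin 3, wt a + wt b + wt c = 0 → ¬ (a = 1 ∧ b = 1 ∧ c = 1) →
      (a = 0 ∧ b = 1 ∧ c = 2) ∨ (a = 0 ∧ b = 2 ∧ c = 1) ∨ (a = 1 ∧ b = 0 ∧ c = 2) ∨ (a = 1 ∧ b = 2 ∧ c = 0) ∨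
      (a = 2 ∧ b = 0 ∧ c = 1) ∨ (a = 2 ∧ b = 1 ∧ c = 0) := by decide
  rcases key a b c h h1 with ⟨rfl, rfl, rfl⟩ | ⟨rfl, rfl, rfl⟩ | ⟨rfl, rfl, rfl⟩ | ⟨rfl, rfl, rfl⟩ | ⟨rfl, rfl, rfl⟩ |
    ⟨rfl, rfl, rfl⟩ <;> linear_combination hτ

omit O I h2 h3 in
theorem perm3' {τ : Fin 3 → k} (hτ : τ 0 * τ 1 * τ 2 = 1) {a b c : Fin 3} (h : wt a + wt b + wt c = 0)
    (h1 : ¬ (a = 1 ∧ b = 1 ∧ c = 1)) : (τ (2 - a))⁻¹ * (τ (2 - b))⁻¹ * (τ (2 - c))⁻¹ = 1 := by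
  have key1 : ∀ a b c : Fin 3, wt a + wt b + wt c = 0 → wt (2 - a) + wt (2 - b) + wt (2 - c) = 0 := by decide
  have key2 : ∀ a b c : Fin 3, ¬ (a = 1 ∧ b = 1 ∧ c = 1) → ¬ (2 - a = 1 ∧ 2 - b = 1 ∧ 2 - c = 1) := by decide
  have h2 := perm3 hτ (key1 a b c h) (key2 a b c h1)
  rw [← mul_inv, ← mul_inv, h2, inv_one]

/-- the same submodule -/
theorem same {τ : Fin 3 → k} (hτ : τ 0 * τ 1 * τ 2 = 1) {c a₁ b₁ a₂ b₂ a₃ b₃ : Fin 3}
    (h : T (e c a₁ b₁) (e c a₂ b₂) (e c a₃ b₃) ≠ 0) :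
    (τ a₁ * (τ (2 - b₁))⁻¹) * (τ a₂ * (τ (2 - b₂))⁻¹) * (τ a₃ * (τ (2 - b₃))⁻¹) = 1 := by
  have h4 := wd_zero O I h2 h3 h (c + 1)
  have h5 := wd_zero O I h2 h3 h (c + 2)
  have w1 : ∀ a b, wd (c + 1) c a b = wt a := by
    intro a b
    unfold wd
    rw [if_pos rfl]
  have w2 : ∀ a b, wd (c + 2) c a b = wt b := by
    intro a b
    unfold wd
    rw [if_neg (ne21 c), if_pos rfl]
  rw [w1, w1, w1] at h4
  rw [w2, w2, w2] at h5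
  have h6 := perm3 hτ h4 (by
    rintro ⟨rfl, rfl, rfl⟩
    exact h (one_one I h2 h3 (f₁ := fun a => e c a b₁) (f₂ := fun a => e c a b₂) (f₃ := fun a => e c a b₃) (d := c + 1)
      (fun a => O.E1 c a b₁) (fun a => O.E1 c a b₂) (fun a => O.E1 c a b₃)))
  have h7 := perm3' hτ h5 (by
    rintro ⟨rfl, rfl, rfl⟩
    exact h (one_one I h2 h3 (f₁ := fun b => e c a₁ b) (f₂ := fun b => e c a₂ b) (f₃ := fun b => e c a₃ b) (d := c + 2)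
      (fun b => O.E2 c a₁ b) (fun b => O.E2 c a₂ b) (fun b => O.E2 c a₃ b)))
  calc (τ a₁ * (τ (2 - b₁))⁻¹) * (τ a₂ * (τ (2 - b₂))⁻¹) * (τ a₃ * (τ (2 - b₃))⁻¹)
      = (τ a₁ * τ a₂ * τ a₃) * ((τ (2 - b₁))⁻¹ * (τ (2 - b₂))⁻¹ * (τ (2 - b₃))⁻¹) := by ring
    _ = 1 := by rw [h6, h7, mul_one]

/-- the three submodules -/
theorem dist {τ : Fin 3 → k} (hτ : ∀ a, τ a ≠ 0) {c a₁ b₁ a₂ b₂ a₃ b₃ : Fin 3}
    (h : T (e c a₁ b₁) (e (c + 1) a₂ b₂) (e (c + 2) a₃ b₃) ≠ 0) :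
    (τ a₁ * (τ (2 - b₁))⁻¹) * (τ a₂ * (τ (2 - b₂))⁻¹) * (τ a₃ * (τ (2 - b₃))⁻¹) = 1 := by
  have h4 := wd_zero O I h2 h3 h c
  have h5 := wd_zero O I h2 h3 h (c + 1)
  have h6 := wd_zero O I h2 h3 h (c + 2)
  have w00 : wd c c a₁ b₁ = 0 := by unfold wd; rw [if_neg (ne01 c), if_neg (ne02 c)]
  have w01 : wd c (c + 1) a₂ b₂ = wt b₂ := by unfold wd; rw [if_neg (ne_0_11 c), if_pos (eq_0_12 c)]
  have w02 : wd c (c + 2) a₃ b₃ = wt a₃ := by unfold wd; rw [if_pos (eq_0_21 c)]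
  have w10 : wd (c + 1) c a₁ b₁ = wt a₁ := by unfold wd; rw [if_pos rfl]
  have w11 : wd (c + 1) (c + 1) a₂ b₂ = 0 := by unfold wd; rw [if_neg (ne01 _), if_neg (ne02 _)]
  have w12 : wd (c + 1) (c + 2) a₃ b₃ = wt b₃ := by unfold wd; rw [if_neg (ne_1_21 c), if_pos (eq_1_22 c)]
  have w20 : wd (c + 2) c a₁ b₁ = wt b₁ := by unfold wd; rw [if_neg (ne21 c), if_pos rfl]
  have w21 : wd (c + 2) (c + 1) a₂ b₂ = wt a₂ := by unfold wd; rw [if_pos (eq_2_11 c)]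
  have w22 : wd (c + 2) (c + 2) a₃ b₃ = 0 := by unfold wd; rw [if_neg (ne01 _), if_neg (ne02 _)]
  rw [w00, w01, w02, zero_add, add_comm] at h4
  rw [w10, w11, w12, add_zero] at h5
  rw [w20, w21, w22, add_zero, add_comm] at h6
  have k1 : a₃ = 2 - b₂ := wt_opp _ _ h4
  have k2 : a₁ = 2 - b₃ := wt_opp _ _ h5
  have k3 : a₂ = 2 - b₁ := wt_opp _ _ h6
  rw [k1, k2, k3]
  have n1 := hτ (2 - b₁)
  have n2 := hτ (2 - b₂)
  have n3 := hτ (2 - b₃)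
  field_simp

/-- **the torus** -/
theorem tri_main {τ : Fin 3 → k} (hτ0 : ∀ a, τ a ≠ 0) (hτ : τ 0 * τ 1 * τ 2 = 1) {c₁ a₁ b₁ c₂ a₂ b₂ c₃ a₃ b₃ : Fin 3}
    (h : T (e c₁ a₁ b₁) (e c₂ a₂ b₂) (e c₃ a₃ b₃) ≠ 0) :
    (τ a₁ * (τ (2 - b₁))⁻¹) * (τ a₂ * (τ (2 - b₂))⁻¹) * (τ a₃ * (τ (2 - b₃))⁻¹) = 1 := by
  have key : ∀ c₁ c₂ c₃ : Fin 3, (c₂ = c₁ ∧ c₃ = c₁) ∨ (c₂ = c₁ ∧ c₃ = c₁ + 1) ∨ (c₂ = c₁ ∧ c₃ = c₁ + 2) ∨
      (c₂ = c₁ + 1 ∧ c₃ = c₁ + 2) ∨ (c₂ = c₁ + 2 ∧ c₃ = c₁ + 1) ∨ (c₃ = c₁ ∧ c₂ = c₁ + 1) ∨ (c₃ = c₁ ∧ c₂ = c₁ + 2) ∨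
      (c₃ = c₂ ∧ c₁ = c₂ + 1) ∨ (c₃ = c₂ ∧ c₁ = c₂ + 2) := by decide
  rcases key c₁ c₂ c₃ with ⟨rfl, rfl⟩ | ⟨rfl, rfl⟩ | ⟨rfl, rfl⟩ | ⟨rfl, rfl⟩ | ⟨rfl, rfl⟩ | ⟨rfl, rfl⟩ | ⟨rfl, rfl⟩ |
    ⟨rfl, rfl⟩ | ⟨rfl, rfl⟩
  · exact same O I h2 h3 hτ h
  · exact absurd (mixed1 O I h2 h3) h
  · exact absurd (mixed2 O I h2 h3) h
  · exact dist O I h2 h3 hτ0 h
  · rw [I.s23] at h
    have h4 := dist O I h2 h3 hτ0 h
    linear_combination h4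
  · rw [I.s23] at h
    exact absurd (mixed1 O I h2 h3) h
  · rw [I.s23] at h
    exact absurd (mixed2 O I h2 h3) h
  · rw [I.s12, I.s23] at h
    exact absurd (mixed1 O I h2 h3) h
  · rw [I.s12, I.s23] at h
    exact absurd (mixed2 O I h2 h3) h

end

end Cfsg.Agent.R2.H14.T
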