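import Cfsg.Agent.R2.H28.SL2.Dig
import Cfsg.Agent.R2.H14.T.Tri

/-!
# T-type: digits (helper14)
-/

set_option autoImplicit false
set_option linter.unusedSectionVars false

namespace Cfsg.Agent.R2.H14.T

open Cfsg.Agent.R2.H28.SL2

theorem dg_zero_add {p x Y : ℕ} (hx : x < p) : (x + p * Y) / p ^ 0 % p = x := by
  rw [pow_zero, Nat.div_one, Nat.add_mul_mod_self_left, Nat.mod_eq_of_lt hx]

theorem dg_succ_add {p x Y l : ℕ} (hx : x < p) : (x + p * Y) / p ^ (l + 1) % p = Y / p ^ l % p := by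
  rw [pow_succ', ← Nat.div_div_eq_div_mul, Nat.add_mul_div_left _ _ (by omega), Nat.div_eq_of_lt hx, zero_add]

theorem dg_two {p : ℕ} (hp : 1 < p) {x y : ℕ} (hx : x < p) (hy : y < p) {i j : ℕ} (hij : i ≠ j) (l : ℕ) :
    (x * p ^ i + y * p ^ j) / p ^ l % p = if l = i then x else if l = j then y else 0 := by
  induction i generalizing j l x y with
  | zero =>
    obtain ⟨j, rfl⟩ : ∃ j', j = j' + 1 := ⟨j - 1, by omega⟩
    have e : x * p ^ 0 + y * p ^ (j + 1) = x + p * (y * p ^ j) := by ring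
    rw [e]
    cases l with
    | zero => rw [dg_zero_add hx, if_pos rfl]
    | succ l =>
      rw [dg_succ_add hx, dg_single hp hy, if_neg (Nat.succ_ne_zero l)]
      by_cases h : l = j
      · rw [if_pos h, if_pos (by omega)]
      · rw [if_neg h, if_neg (by omega)]
  | succ i ih =>
    cases j with
    | zero =>
      have e : x * p ^ (i + 1) + y * p ^ 0 = y + p * (x * p ^ i) := by ring
      rw [e]
      cases l with
      | zero => rw [dg_zero_add hy, if_neg (by omega), if_pos rfl]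
      | succ l =>
        rw [dg_succ_add hy, dg_single hp hx]
        by_cases h : l = i
        · rw [if_pos h, if_pos (by omega)]
        · rw [if_neg h, if_neg (by omega), if_neg (by omega)]
    | succ j =>
      have e : x * p ^ (i + 1) + y * p ^ (j + 1) = 0 + p * (x * p ^ i + y * p ^ j) := by ring
      rw [e]
      cases l with
      | zero => rw [dg_zero_add (by omega), if_neg (by omega), if_neg (by omega)]
      | succ l =>
        rw [dg_succ_add (by omega), ih (j := j) hx hy (by omega)]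
        by_cases h : l = i
        · rw [if_pos h, if_pos (by omega)]
        · rw [if_neg h, if_neg (show ¬ l + 1 = i + 1 by omega)]
          by_cases h' : l = j
          · rw [if_pos h', if_pos (by omega)]
          · rw [if_neg h', if_neg (by omega)]

/-- `C(n, p ^ i)` is the digit of `n` -/
theorem choose_pow (k : Type*) [Field k] {p : ℕ} [Fact p.Prime] [CharP k p] (n i : ℕ) :
    ((n.choose (p ^ i) : ℕ) : k) = ((n / p ^ i % p : ℕ) : k) := by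
  have hp : p.Prime := Fact.out
  have h1 := Choose.choose_modEq_prod_range_choose_nat (p := p) (a := n + i + 1) (n := n) (k := p ^ i)
    (lt_of_lt_of_le (Nat.lt_pow_self hp.one_lt) (Nat.pow_le_pow_right hp.pos (by omega)))
    (Nat.pow_lt_pow_right hp.one_lt (by omega))
  have h2 : ∏ l ∈ Finset.range (n + i + 1), (n / p ^ l % p).choose (p ^ i / p ^ l % p) = n / p ^ i % p := by
    rw [Finset.prod_eq_single i]
    · have := dg_single hp.one_lt (c := 1) hp.one_lt i i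
      rw [one_mul, if_pos rfl] at this
      rw [this, Nat.choose_one_right]
    · intro l _ hl
      have := dg_single hp.one_lt (c := 1) hp.one_lt i l
      rw [one_mul, if_neg hl] at this
      rw [this, Nat.choose_zero_right]
    · intro h
      exact absurd (Finset.mem_range.2 (by omega)) h
  rw [h2] at h1
  exact (CharP.cast_eq_iff_mod_eq k p).2 h1

/-- powers of different digits -/
theorem lin2 {p : ℕ} (hp5 : 3 ≤ p) {i j : ℕ} (hij : i ≠ j) {x y : ℤ} (hx : -2 ≤ x) (hx' : x ≤ 2) (hy : -2 ≤ y)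
    (hy' : y ≤ 2) (h : x * (p : ℤ) ^ i + y * (p : ℤ) ^ j = 0) : x = 0 ∧ y = 0 := by
  have key : ∀ (i j : ℕ) (x y : ℤ), i < j → -2 ≤ x → x ≤ 2 → x * (p : ℤ) ^ i + y * (p : ℤ) ^ j = 0 → x = 0 ∧ y = 0 := by
    intro i j x y hij hx hx' h
    obtain ⟨d, rfl⟩ : ∃ d, j = i + (d + 1) := ⟨j - i - 1, by omega⟩
    have hpp : (0 : ℤ) < (p : ℤ) := by omega
    have hpi : (p : ℤ) ^ i ≠ 0 := (pow_pos hpp i).ne'
    have h1 : (x + y * (p : ℤ) ^ d * p) * (p : ℤ) ^ i = 0 := by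
      rw [← h]
      ring
    have h2 : x + y * (p : ℤ) ^ d * p = 0 := (mul_eq_zero.1 h1).resolve_right hpi
    have h3 : (p : ℤ) ∣ x := ⟨-(y * (p : ℤ) ^ d), by linear_combination h2⟩
    have h4 : x = 0 := by
      by_contra hne
      have h5 := Int.le_of_dvd (abs_pos.2 hne) ((dvd_abs _ _).2 h3)
      have h6 : |x| ≤ 2 := abs_le.2 ⟨hx, hx'⟩
      omega
    refine ⟨h4, ?_⟩
    rw [h4, zero_add] at h2
    have h5 := (mul_eq_zero.1 h2).resolve_right hpp.ne'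
    exact (mul_eq_zero.1 h5).resolve_right (pow_pos hpp d).ne'
  rcases Nat.lt_or_gt_of_ne hij with h1 | h1
  · exact key i j x y h1 hx hx' h
  · have h2 := key j i y x h1 hy hy' (by rw [← h]; ring)
    exact ⟨h2.2, h2.1⟩

/-- three distinct digits -/
structure Dg3 (p a : ℕ) (i : Fin 3 → ℕ) : Prop where
  odd : p = 3 ∨ 5 ≤ p
  inj : Function.Injective i
  lt : ∀ c, i c < a

section

variable {p a : ℕ} {i : Fin 3 → ℕ} (D : Dg3 p a i)

include D

theorem Dg3.three : 3 ≤ p := by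
  have := D.odd
  omega

theorem Dg3.three_le : 3 ≤ a := by
  by_contra hc
  have h0 := D.lt 0
  have h1 := D.lt 1
  have h2 := D.lt 2
  have n1 : i 0 ≠ i 1 := fun h => absurd (D.inj h) (by decide)
  have n2 : i 0 ≠ i 2 := fun h => absurd (D.inj h) (by decide)
  have n3 : i 1 ≠ i 2 := fun h => absurd (D.inj h) (by decide)
  omega

theorem Dg3.sum_le {j l : ℕ} (hj : j < a) (hl : l < a) (hjl : j ≠ l) : p ^ j + p ^ l ≤ p ^ (a - 2) + p ^ (a - 1) := by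
  have h5 := D.three
  have ha := D.three_le
  have key : ∀ j l : ℕ, j < l → l < a → p ^ j + p ^ l ≤ p ^ (a - 2) + p ^ (a - 1) := by
    intro j l hjl hl
    exact Nat.add_le_add (Nat.pow_le_pow_right (by omega) (by omega)) (Nat.pow_le_pow_right (by omega) (by omega))
  rcases Nat.lt_or_gt_of_ne hjl with h | h
  · exact key j l h hl
  · rw [add_comm]
    exact key l j h hj

theorem Dg3.bound {j l : ℕ} (hj : j < a) (hl : l < a) (hjl : j ≠ l) : 2 * (p ^ j + p ^ l) < p ^ a - 1 := by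
  have h5 := D.three
  have ha := D.three_le
  have h1 := D.sum_le hj hl hjl
  obtain ⟨m, rfl⟩ : ∃ m, a = m + 3 := ⟨a - 3, by omega⟩
  rw [show m + 3 - 2 = m + 1 by omega, show m + 3 - 1 = m + 2 by omega] at h1
  have h2 : 3 ≤ p ^ (m + 1) := by
    calc 3 ≤ p := h5
      _ = p ^ 1 := (pow_one p).symm
      _ ≤ p ^ (m + 1) := Nat.pow_le_pow_right (by omega) (by omega)
  obtain ⟨X, hX⟩ : ∃ X, X = p ^ (m + 1) := ⟨_, rfl⟩
  rw [show p ^ (m + 2) = X * p by rw [hX]; ring, ← hX] at h1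
  rw [show p ^ (m + 3) = X * (p * p) by rw [hX]; ring]
  rw [← hX] at h2
  obtain ⟨P, rfl⟩ : ∃ P, p = P + 3 := ⟨p - 3, by omega⟩
  have e1 : X * ((P + 3) * (P + 3)) = X * P * P + 6 * (X * P) + 9 * X := by ring
  have e2 : X * (P + 3) = X * P + 3 * X := by ring
  rw [e1]
  rw [e2] at h1
  omega

theorem Dg3.bound4 (hp5 : 5 ≤ p) {j l : ℕ} (hj : j < a) (hl : l < a) (hjl : j ≠ l) :
    4 * (p ^ j + p ^ l) < p ^ a - 1 := by
  have ha := D.three_le
  have h1 := D.sum_le hj hl hjl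
  obtain ⟨m, rfl⟩ : ∃ m, a = m + 3 := ⟨a - 3, by omega⟩
  rw [show m + 3 - 2 = m + 1 by omega, show m + 3 - 1 = m + 2 by omega] at h1
  have h2 : 5 ≤ p ^ (m + 1) := by
    calc 5 ≤ p := hp5
      _ = p ^ 1 := (pow_one p).symm
      _ ≤ p ^ (m + 1) := Nat.pow_le_pow_right (by omega) (by omega)
  obtain ⟨X, hX⟩ : ∃ X, X = p ^ (m + 1) := ⟨_, rfl⟩
  rw [show p ^ (m + 2) = X * p by rw [hX]; ring, ← hX] at h1
  rw [show p ^ (m + 3) = X * (p * p) by rw [hX]; ring]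
  rw [← hX] at h2
  obtain ⟨P, rfl⟩ : ∃ P, p = P + 5 := ⟨p - 5, by omega⟩
  have e1 : X * ((P + 5) * (P + 5)) = X * P * P + 10 * (X * P) + 25 * X := by ring
  have e2 : X * (P + 5) = X * P + 5 * X := by ring
  rw [e1]
  rw [e2] at h1
  omega

theorem Dg3.ne1 (c : Fin 3) : i (c + 1) ≠ i (c + 2) := fun h => ne21 c (D.inj h).symm

/-- the weights -/
def W (p : ℕ) (i : Fin 3 → ℕ) (c a b : Fin 3) : ℤ := 2 * (wt a * (p : ℤ) ^ i (c + 1) + wt b * (p : ℤ) ^ i (c + 2))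

theorem Dg3.boundZ {j l : ℕ} (hj : j < a) (hl : l < a) (hjl : j ≠ l) :
    2 * ((p : ℤ) ^ j + (p : ℤ) ^ l) < ((p ^ a - 1 : ℕ) : ℤ) := by
  have h := D.bound hj hl hjl
  have h1 : ((2 * (p ^ j + p ^ l) : ℕ) : ℤ) < ((p ^ a - 1 : ℕ) : ℤ) := Int.ofNat_lt.2 h
  push_cast at h1 ⊢
  exact h1

theorem Dg3.boundZ4 (hp5 : 5 ≤ p) {j l : ℕ} (hj : j < a) (hl : l < a) (hjl : j ≠ l) :
    4 * ((p : ℤ) ^ j + (p : ℤ) ^ l) < ((p ^ a - 1 : ℕ) : ℤ) := by
  have h := D.bound4 hp5 hj hl hjl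
  have h1 : ((4 * (p ^ j + p ^ l) : ℕ) : ℤ) < ((p ^ a - 1 : ℕ) : ℤ) := Int.ofNat_lt.2 h
  push_cast at h1 ⊢
  exact h1

omit D in
/-- `p = 3` -/
theorem three_aux {a i j : ℕ} (ha : 3 ≤ a) (hij : i < j) {x y : ℤ} (hx : -2 ≤ x) (hx' : x ≤ 2) (hy : -2 ≤ y)
    (hy' : y ≤ 2) (h : 2 * (x * 3 ^ i + y * 3 ^ j) = 3 ^ a - 1) : False := by
  obtain ⟨m, rfl⟩ : ∃ m, a = m + 3 := ⟨a - 3, by omega⟩
  obtain ⟨d, rfl⟩ : ∃ d, j = d + 1 := ⟨j - 1, by omega⟩
  have e3 : (3 : ℤ) ^ (m + 3) = 3 * (3 * (3 * 3 ^ m)) := by ring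
  have ej : (3 : ℤ) ^ (d + 1) = 3 * 3 ^ d := by ring
  have hm : (1 : ℤ) ≤ 3 ^ m := one_le_pow₀ (by norm_num)
  rw [e3, ej] at h
  obtain ⟨M, hM⟩ : ∃ M : ℤ, M = 3 ^ m := ⟨_, rfl⟩
  rw [← hM] at h hm
  rcases Nat.eq_zero_or_pos i with rfl | hi
  · rw [pow_zero, mul_one] at h
    rcases Nat.eq_zero_or_pos d with rfl | hd
    · rw [pow_zero, mul_one] at h
      omega
    · obtain ⟨d', rfl⟩ : ∃ d', d = d' + 1 := ⟨d - 1, by omega⟩
      have ed : (3 : ℤ) ^ (d' + 1) = 3 * 3 ^ d' := by ring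
      rw [ed] at h
      obtain ⟨Y, hY⟩ : ∃ Y : ℤ, Y = y * 3 ^ d' := ⟨_, rfl⟩
      have h1 : 2 * (x + 9 * Y) = 27 * M - 1 := by
        rw [hY]
        linear_combination h
      omega
  · obtain ⟨i', rfl⟩ : ∃ i', i = i' + 1 := ⟨i - 1, by omega⟩
    have ei : (3 : ℤ) ^ (i' + 1) = 3 * 3 ^ i' := by ring
    rw [ei] at h
    obtain ⟨Y, hY⟩ : ∃ Y : ℤ, Y = x * 3 ^ i' + y * 3 ^ d := ⟨_, rfl⟩
    have h1 : 2 * (3 * Y) = 27 * M - 1 := by
      rw [hY]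
      linear_combination h
    omega

theorem Dg3.W_inj {c a₁ b₁ a₂ b₂ : Fin 3} (h : ((p ^ a - 1 : ℕ) : ℤ) ∣ W p i c a₁ b₁ - W p i c a₂ b₂) :
    a₁ = a₂ ∧ b₁ = b₂ := by
  have h5 := D.three
  obtain ⟨x, hx⟩ : ∃ x, x = wt a₁ - wt a₂ := ⟨_, rfl⟩
  obtain ⟨y, hy⟩ : ∃ y, y = wt b₁ - wt b₂ := ⟨_, rfl⟩
  have w1 := wt_bd a₁
  have w2 := wt_bd a₂
  have w3 := wt_bd b₁
  have w4 := wt_bd b₂
  have e : W p i c a₁ b₁ - W p i c a₂ b₂ = 2 * (x * (p : ℤ) ^ i (c + 1) + y * (p : ℤ) ^ i (c + 2)) := by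
    unfold W
    rw [hx, hy]
    ring
  rw [e] at h
  have hpp : (0 : ℤ) < (p : ℤ) := by omega
  have p1 : 0 < (p : ℤ) ^ i (c + 1) := pow_pos hpp _
  have p2 : 0 < (p : ℤ) ^ i (c + 2) := pow_pos hpp _
  have h0 : x * (p : ℤ) ^ i (c + 1) + y * (p : ℤ) ^ i (c + 2) = 0 := by
    by_contra hne
    have h7 : |2 * (x * (p : ℤ) ^ i (c + 1) + y * (p : ℤ) ^ i (c + 2))| ≤ 4 * ((p : ℤ) ^ i (c + 1) + (p : ℤ) ^ i (c + 2)) := by
      rw [abs_le]
      constructor <;> nlinarith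
    rcases D.odd with hp3 | hp5
    · -- `p = 3`
      have ha := D.three_le
      subst hp3
      obtain ⟨z, hz⟩ := h
      have hcast : (((3 : ℕ) ^ a - 1 : ℕ) : ℤ) = 3 ^ a - 1 := by
        push_cast [Nat.cast_sub (Nat.one_le_pow a 3 (by norm_num))]
        rfl
      rw [hcast] at hz
      have hs := D.sum_le (D.lt (c + 1)) (D.lt (c + 2)) (D.ne1 c)
      have hs' : ((3 : ℤ) ^ i (c + 1) + (3 : ℤ) ^ i (c + 2)) ≤ 3 ^ (a - 2) + 3 ^ (a - 1) := by exact_mod_cast hs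
      have hle : 4 * ((3 : ℤ) ^ i (c + 1) + (3 : ℤ) ^ i (c + 2)) < 2 * (3 ^ a - 1) := by
        obtain ⟨m, rfl⟩ : ∃ m, a = m + 3 := ⟨a - 3, by omega⟩
        rw [show m + 3 - 2 = m + 1 by omega, show m + 3 - 1 = m + 2 by omega] at hs'
        have hm : (1 : ℤ) ≤ 3 ^ m := one_le_pow₀ (by norm_num)
        have e1 : (3 : ℤ) ^ (m + 1) = 3 * 3 ^ m := by ring
        have e2 : (3 : ℤ) ^ (m + 2) = 9 * 3 ^ m := by ring
        have e3 : (3 : ℤ) ^ (m + 3) = 27 * 3 ^ m := by ring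
        rw [e1, e2] at hs'
        rw [e3]
        linarith
      have hA : (0 : ℤ) < 3 ^ a - 1 := by
        have : (1 : ℤ) < 3 ^ a := one_lt_pow₀ (by norm_num) (by omega)
        omega
      rw [abs_le] at h7
      push_cast at h7 hz hne
      have hz1 : z < 2 := by nlinarith
      have hz2 : -2 < z := by nlinarith
      have hz3 : z = -1 ∨ z = 0 ∨ z = 1 := by omega
      have hneg : -2 ≤ x ∧ x ≤ 2 ∧ -2 ≤ y ∧ y ≤ 2 := by omega
      have hne' := D.ne1 c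
      rcases hz3 with rfl | rfl | rfl
      · rcases Nat.lt_or_gt_of_ne hne' with h8 | h8
        · exact three_aux ha h8 (x := -x) (y := -y) (by omega) (by omega) (by omega) (by omega) (by linear_combination -hz)
        · exact three_aux ha h8 (x := -y) (y := -x) (by omega) (by omega) (by omega) (by omega) (by linear_combination -hz)
      · apply hne
        linarith
      · rcases Nat.lt_or_gt_of_ne hne' with h8 | h8
        · exact three_aux ha h8 (x := x) (y := y) (by omega) (by omega) (by omega) (by omega) (by linear_combination hz)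
        · exact three_aux ha h8 (x := y) (y := x) (by omega) (by omega) (by omega) (by omega) (by linear_combination hz)
    · have hb := D.boundZ4 hp5 (D.lt (c + 1)) (D.lt (c + 2)) (D.ne1 c)
      have h6 := Int.le_of_dvd (abs_pos.2 (mul_ne_zero two_ne_zero hne)) ((dvd_abs _ _).2 h)
      omega
  obtain ⟨h8, h9⟩ := lin2 h5 (D.ne1 c) (by omega) (by omega) (by omega) (by omega) h0
  have key : ∀ a b : Fin 3, wt a - wt b = 0 → a = b := by decide
  exact ⟨key _ _ (hx ▸ h8), key _ _ (hy ▸ h9)⟩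

theorem Dg3.pow_inj {j l : ℕ} (h : (p : ℤ) ^ j = (p : ℤ) ^ l) : j = l := by
  have h5 := D.three
  have h1 : p ^ j = p ^ l := by exact_mod_cast h
  exact Nat.pow_right_injective (by omega) h1

theorem Dg3.sum3 (c : Fin 3) : (p : ℤ) ^ i (c + 1) + (p : ℤ) ^ i (c + 2) = (p : ℤ) ^ i 0 + (p : ℤ) ^ i 1 + (p : ℤ) ^ i 2 - (p : ℤ) ^ i c := by
  fin_cases c
  · show (p : ℤ) ^ i 1 + (p : ℤ) ^ i 2 = (p : ℤ) ^ i 0 + (p : ℤ) ^ i 1 + (p : ℤ) ^ i 2 - (p : ℤ) ^ i 0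
    ring
  · show (p : ℤ) ^ i 2 + (p : ℤ) ^ i 0 = (p : ℤ) ^ i 0 + (p : ℤ) ^ i 1 + (p : ℤ) ^ i 2 - (p : ℤ) ^ i 1
    ring
  · show (p : ℤ) ^ i 0 + (p : ℤ) ^ i 1 = (p : ℤ) ^ i 0 + (p : ℤ) ^ i 1 + (p : ℤ) ^ i 2 - (p : ℤ) ^ i 2
    ring

theorem Dg3.W_top {c d : Fin 3} (h : ((p ^ a - 1 : ℕ) : ℤ) ∣ W p i c 2 2 - W p i d 2 2) : c = d := by
  have h5 := D.three
  have hpp : (0 : ℤ) < (p : ℤ) := by omega
  have hb1 := D.boundZ (D.lt (c + 1)) (D.lt (c + 2)) (D.ne1 c)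
  have hb2 := D.boundZ (D.lt (d + 1)) (D.lt (d + 2)) (D.ne1 d)
  have p1 : 0 < (p : ℤ) ^ i (c + 1) := pow_pos hpp _
  have p2 : 0 < (p : ℤ) ^ i (c + 2) := pow_pos hpp _
  have p3 : 0 < (p : ℤ) ^ i (d + 1) := pow_pos hpp _
  have p4 : 0 < (p : ℤ) ^ i (d + 2) := pow_pos hpp _
  have w2 : wt 2 = 1 := rfl
  unfold W at h
  rw [w2, one_mul, one_mul, one_mul, one_mul] at h
  have h0 : 2 * ((p : ℤ) ^ i (c + 1) + (p : ℤ) ^ i (c + 2)) - 2 * ((p : ℤ) ^ i (d + 1) + (p : ℤ) ^ i (d + 2)) = 0 := by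
    by_contra hne
    have h6 := Int.le_of_dvd (abs_pos.2 hne) ((dvd_abs _ _).2 h)
    have h7 : |2 * ((p : ℤ) ^ i (c + 1) + (p : ℤ) ^ i (c + 2)) - 2 * ((p : ℤ) ^ i (d + 1) + (p : ℤ) ^ i (d + 2))| <
        ((p ^ a - 1 : ℕ) : ℤ) := by
      rw [abs_lt]
      constructor <;> omega
    omega
  rw [D.sum3 c, D.sum3 d] at h0
  exact D.inj (D.pow_inj (by linarith))

/-- **the action of a Frobenius map on the digits** -/
theorem Dg3.perm {n : ℕ} {π : Fin 3 → Fin 3}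
    (h : ∀ c, ((p ^ a - 1 : ℕ) : ℤ) ∣ (p : ℤ) ^ n * W p i c 2 2 - W p i (π c) 2 2) (c a' b' : Fin 3) :
    ((p ^ a - 1 : ℕ) : ℤ) ∣ (p : ℤ) ^ n * W p i c a' b' - W p i (π c) a' b' := by
  have h5 := D.three
  have hpp : (0 : ℤ) < (p : ℤ) := by omega
  have ha := D.three_le
  have hpa : 1 ≤ p ^ a := Nat.one_le_pow _ _ (by omega)
  -- the new digits
  obtain ⟨i', hi'⟩ : ∃ i' : Fin 3 → ℕ, i' = fun c => (i c + n) % a := ⟨_, rfl⟩
  have D' : Dg3 p a i' := by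
    refine ⟨D.odd, fun c d hcd => D.inj ?_, fun c => ?_⟩
    · rw [hi'] at hcd
      have h1 : (i c + n) % a = (i d + n) % a := hcd
      have h2 : i c % a = i d % a := Nat.ModEq.add_right_cancel' n h1
      rwa [Nat.mod_eq_of_lt (D.lt c), Nat.mod_eq_of_lt (D.lt d)] at h2
    · rw [hi']
      exact Nat.mod_lt _ (by omega)
  have hcast : ((p ^ a - 1 : ℕ) : ℤ) = (p : ℤ) ^ a - 1 := by
    push_cast [Nat.cast_sub hpa]
    rfl
  have hmod : ∀ c, ((p ^ a - 1 : ℕ) : ℤ) ∣ (p : ℤ) ^ n * (p : ℤ) ^ i c - (p : ℤ) ^ i' c := by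
    intro c
    rw [hcast, hi', ← pow_add, add_comm n]
    show (p : ℤ) ^ a - 1 ∣ (p : ℤ) ^ (i c + n) - (p : ℤ) ^ ((i c + n) % a)
    obtain ⟨q', hq'⟩ : ∃ q', i c + n = a * q' + (i c + n) % a := ⟨_, (Nat.div_add_mod _ _).symm⟩
    have e : (p : ℤ) ^ (i c + n) - (p : ℤ) ^ ((i c + n) % a) = (p : ℤ) ^ ((i c + n) % a) * (((p : ℤ) ^ a) ^ q' - 1) := by
      conv_lhs => rw [hq', pow_add, pow_mul]
      rw [Nat.mul_add_mod, Nat.mod_mod]
      ring
    rw [e]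
    exact Dvd.dvd.mul_left (sub_one_dvd_pow_sub_one _ _) _
  -- the sums
  have h6 : ∀ c, (p : ℤ) ^ i' (c + 1) + (p : ℤ) ^ i' (c + 2) = (p : ℤ) ^ i (π c + 1) + (p : ℤ) ^ i (π c + 2) := by
    intro c
    have h1 := h c
    have h2 := hmod (c + 1)
    have h3 := hmod (c + 2)
    have w2 : wt 2 = 1 := rfl
    unfold W at h1
    rw [w2, one_mul, one_mul, one_mul, one_mul] at h1
    have h4 : ((p ^ a - 1 : ℕ) : ℤ) ∣ 2 * ((p : ℤ) ^ i' (c + 1) + (p : ℤ) ^ i' (c + 2)) -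
        2 * ((p : ℤ) ^ i (π c + 1) + (p : ℤ) ^ i (π c + 2)) := by
      obtain ⟨z1, hz1⟩ := h1
      obtain ⟨z2, hz2⟩ := h2
      obtain ⟨z3, hz3⟩ := h3
      exact ⟨z1 - 2 * z2 - 2 * z3, by linear_combination hz1 - 2 * hz2 - 2 * hz3⟩
    have hb1 := D'.boundZ (D'.lt (c + 1)) (D'.lt (c + 2)) (D'.ne1 c)
    have hb2 := D.boundZ (D.lt (π c + 1)) (D.lt (π c + 2)) (D.ne1 (π c))
    have p1 : 0 < (p : ℤ) ^ i' (c + 1) := pow_pos hpp _
    have p2 : 0 < (p : ℤ) ^ i' (c + 2) := pow_pos hpp _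
    have p3 : 0 < (p : ℤ) ^ i (π c + 1) := pow_pos hpp _
    have p4 : 0 < (p : ℤ) ^ i (π c + 2) := pow_pos hpp _
    by_contra hne
    have h8 := Int.le_of_dvd (abs_pos.2 (by omega)) ((dvd_abs _ _).2 h4)
    have h9 : |2 * ((p : ℤ) ^ i' (c + 1) + (p : ℤ) ^ i' (c + 2)) -
        2 * ((p : ℤ) ^ i (π c + 1) + (p : ℤ) ^ i (π c + 2))| < ((p ^ a - 1 : ℕ) : ℤ) := by
      rw [abs_lt]
      constructor <;> omega
    omega
  obtain ⟨P, hP⟩ : ∃ P, P = (p : ℤ) ^ i 0 + (p : ℤ) ^ i 1 + (p : ℤ) ^ i 2 := ⟨_, rfl⟩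
  obtain ⟨P', hP'⟩ : ∃ P', P' = (p : ℤ) ^ i' 0 + (p : ℤ) ^ i' 1 + (p : ℤ) ^ i' 2 := ⟨_, rfl⟩
  have h7 : ∀ c, P' - (p : ℤ) ^ i' c = P - (p : ℤ) ^ i (π c) := by
    intro c
    have h8 := h6 c
    rw [D'.sum3, D.sum3] at h8
    rw [hP, hP']
    exact h8
  have hπ : Function.Injective π := by
    intro c d hcd
    have h8 := h7 c
    have h9 := h7 d
    rw [hcd] at h8
    exact D'.inj (D'.pow_inj (by linarith))
  have hsum : ∑ c, (p : ℤ) ^ i (π c) = P := by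
    have hπb : Function.Bijective π := Finite.injective_iff_bijective.1 hπ
    rw [hπb.sum_comp (fun c => (p : ℤ) ^ i c), Fin.sum_univ_three, hP]
  have hPP : P' = P := by
    have s0 := h7 0
    have s1 := h7 1
    have s2 := h7 2
    rw [Fin.sum_univ_three] at hsum
    have : 3 * P' - P' = 3 * P - P := by linarith
    linarith
  have h8 : ∀ c, i' c = i (π c) := by
    intro c
    have h9 := h7 c
    rw [hPP] at h9
    exact D.pow_inj (by linarith)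
  -- a fixed point
  have hfix : (∃ c, π c = c) → ∀ c, π c = c := by
    rintro ⟨c, hc⟩ d
    have h9 := h8 c
    rw [hc, hi'] at h9
    have h10 : (i c + n) % a = i c := h9
    have h11 : n % a = 0 := by
      have : (i c + n) % a = (i c + 0) % a := by rw [h10, add_zero, Nat.mod_eq_of_lt (D.lt c)]
      have h12 : n % a = 0 % a := Nat.ModEq.add_left_cancel' (i c) this
      rw [h12, Nat.zero_mod]
    apply D.inj
    rw [← h8 d, hi']
    show (i d + n) % a = i d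
    rw [Nat.add_mod, h11, add_zero, Nat.mod_mod, Nat.mod_eq_of_lt (D.lt d)]
  have key : ∀ x0 x1 x2 : Fin 3, x0 ≠ x1 → x0 ≠ x2 → x1 ≠ x2 →
      ((x0 = 0 ∨ x1 = 1 ∨ x2 = 2) → x0 = 0 ∧ x1 = 1 ∧ x2 = 2) → x1 = x0 + 1 ∧ x2 = x0 + 2 := by decide
  have h9 := key (π 0) (π 1) (π 2) (fun h => absurd (hπ h) (by decide)) (fun h => absurd (hπ h) (by decide))
    (fun h => absurd (hπ h) (by decide)) (by
      intro h9
      have h10 : ∃ c, π c = c := by
        rcases h9 with h9 | h9 | h9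
        · exact ⟨0, h9⟩
        · exact ⟨1, h9⟩
        · exact ⟨2, h9⟩
      exact ⟨hfix h10 0, hfix h10 1, hfix h10 2⟩)
  have h10 : ∀ c, π (c + 1) = π c + 1 ∧ π (c + 2) = π c + 2 := by
    have key2 : ∀ x : Fin 3, x = x + 1 + 2 ∧ x + 2 = x + 1 + 1 ∧ x = x + 2 + 1 ∧ x + 1 = x + 2 + 2 := by decide
    intro c
    fin_cases c
    · exact ⟨h9.1, h9.2⟩
    · show π 2 = π 1 + 1 ∧ π 0 = π 1 + 2
      rw [h9.1, h9.2]
      exact ⟨(key2 _).2.1, (key2 _).1⟩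
    · show π 0 = π 2 + 1 ∧ π 1 = π 2 + 2
      rw [h9.1, h9.2]
      exact ⟨(key2 _).2.2.1, (key2 _).2.2.2⟩
  have h11 := hmod (c + 1)
  have h12 := hmod (c + 2)
  rw [h8, (h10 c).1] at h11
  rw [h8, (h10 c).2] at h12
  unfold W
  obtain ⟨z1, hz1⟩ := h11
  obtain ⟨z2, hz2⟩ := h12
  exact ⟨2 * wt a' * z1 + 2 * wt b' * z2, by linear_combination (2 * wt a') * hz1 + (2 * wt b') * hz2⟩

end

end Cfsg.Agent.R2.H14.T
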