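import Cfsg.Agent.R2.H28.SL2.CF
import Cfsg.Agent.R2.H14.T.NT
import Cfsg.Agent.R2.H14.T.Der

/-!
# T-type: the basis (helper14)

`TT ι p i ρ φ` : `V = V_{b 0} ⊕ V_{b 1} ⊕ V_{b 2}`, `b c = 2 p ^ i (c + 1) + 2 p ^ i (c + 2)`; `ev φ c a b` : the basis vectors.
-/

set_option autoImplicit false
set_option linter.unusedSectionVars false

namespace Cfsg.Agent.R2.H14.T

open Matrix Cfsg.Agent.H943.SL2Rel Cfsg.Agent.H943.SL2Mod Cfsg.Agent.H943.RepAdd Cfsg.Agent.R2.H28.SL2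

theorem dg_ext {p : ℕ} (hp : 1 < p) : ∀ s m n : ℕ, m + n ≤ s → (∀ l, m / p ^ l % p = n / p ^ l % p) → m = n := by
  intro s
  induction s with
  | zero =>
    intro m n h _
    omega
  | succ s ih =>
    intro m n h hd
    have h0 := hd 0
    rw [pow_zero, Nat.div_one, Nat.div_one] at h0
    by_cases hmn : m + n = 0
    · omega
    have h1 : m / p + n / p ≤ s := by
      have h2 : (m + n) / p < m + n := Nat.div_lt_self (by omega) hp
      have h3 : m / p + n / p ≤ (m + n) / p := Nat.div_add_div_le_add_div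
      omega
    have h2 := ih (m / p) (n / p) h1 (by
      intro l
      have := hd (l + 1)
      rwa [pow_succ', ← Nat.div_div_eq_div_mul, ← Nat.div_div_eq_div_mul] at this)
    rw [← Nat.div_add_mod m p, ← Nat.div_add_mod n p, h2, h0]

/-- the highest weights -/
def bw (p : ℕ) (i : Fin 3 → ℕ) (c : Fin 3) : ℕ := 2 * p ^ i (c + 1) + 2 * p ^ i (c + 2)

/-- the exponents -/
def mw (p : ℕ) (i : Fin 3 → ℕ) (c a b : Fin 3) : ℕ := (a : ℕ) * p ^ i (c + 1) + (b : ℕ) * p ^ i (c + 2)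

section

variable {p a : ℕ} {i : Fin 3 → ℕ} (D : Dg3 p a i)

include D

theorem Dg3.dg_bw (c : Fin 3) (l : ℕ) : bw p i c / p ^ l % p = if l = i (c + 1) then 2 else if l = i (c + 2) then 2 else 0 := by
  have h5 := D.three
  exact dg_two (by omega) (by omega) (by omega) (D.ne1 c) l

theorem Dg3.dg_mw (c x y : Fin 3) (l : ℕ) : mw p i c x y / p ^ l % p =
    if l = i (c + 1) then (x : ℕ) else if l = i (c + 2) then (y : ℕ) else 0 := by
  have h5 := D.three
  have h1 := x.2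
  have h2 := y.2
  exact dg_two (by omega) (by omega) (by omega) (D.ne1 c) l

theorem Dg3.mw_le (c x y : Fin 3) : mw p i c x y ≤ bw p i c := by
  have h1 := x.2
  have h2 := y.2
  exact Nat.add_le_add (Nat.mul_le_mul_right _ (by omega)) (Nat.mul_le_mul_right _ (by omega))

omit D in
theorem sub_mw (c x y : Fin 3) : bw p i c - mw p i c x y = mw p i c (2 - x) (2 - y) := by
  have key : ∀ x : Fin 3, ((2 - x : Fin 3) : ℕ) = 2 - (x : ℕ) := by decide
  have h1 := x.2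
  have h2 := y.2
  unfold bw mw
  rw [key, key]
  generalize p ^ i (c + 1) = P
  generalize p ^ i (c + 2) = R
  obtain ⟨x', hx'⟩ : ∃ x', x' + (x : ℕ) = 2 := ⟨2 - x, by omega⟩
  obtain ⟨y', hy'⟩ : ∃ y', y' + (y : ℕ) = 2 := ⟨2 - y, by omega⟩
  have e1 : 2 * P = x' * P + x * P := by rw [← add_mul, hx']
  have e2 : 2 * R = y' * R + y * R := by rw [← add_mul, hy']
  rw [show 2 - (x : ℕ) = x' by omega, show 2 - (y : ℕ) = y' by omega]
  omega

theorem Dg3.bw_lt (c : Fin 3) : bw p i c < p ^ a - 1 := by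
  have h := D.bound (D.lt (c + 1)) (D.lt (c + 2)) (D.ne1 c)
  unfold bw
  omega

theorem Dg3.bw_inj {c d : Fin 3} (h : bw p i c = bw p i d) : c = d := by
  apply D.W_top
  have e : ∀ c, W p i c 2 2 = (bw p i c : ℤ) := by
    intro c
    unfold W bw
    rw [show wt 2 = 1 from rfl]
    push_cast
    ring
  rw [e, e, h, sub_self]
  exact dvd_zero _

variable {k : Type*} [Field k] [Fact p.Prime] [CharP k p]

theorem Dg3.mem_Bb (c x y : Fin 3) : mw p i c x y ∈ Bb k (bw p i c) := by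
  refine ⟨D.mw_le c x y, (choose_ne_iff p).2 fun l => ?_⟩
  rw [D.dg_mw, D.dg_bw]
  have h1 := x.2
  have h2 := y.2
  split_ifs <;> omega

theorem Dg3.of_mem_Bb {c : Fin 3} {m : ℕ} (h : m ∈ Bb k (bw p i c)) : ∃ x y, m = mw p i c x y := by
  have h5 := D.three
  have h1 := (choose_ne_iff p).1 h.2
  have hx := h1 (i (c + 1))
  have hy := h1 (i (c + 2))
  rw [D.dg_bw, if_pos rfl] at hx
  rw [D.dg_bw, if_neg (D.ne1 c).symm, if_pos rfl] at hy
  refine ⟨⟨m / p ^ i (c + 1) % p, Nat.lt_succ_of_le hx⟩, ⟨m / p ^ i (c + 2) % p, Nat.lt_succ_of_le hy⟩, ?_⟩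
  refine dg_ext (p := p) (by omega) _ _ _ le_rfl fun l => ?_
  rw [D.dg_mw]
  split_ifs with h2 h3
  · rw [h2]
  · rw [h3]
  · have h4 := h1 l
    rw [D.dg_bw, if_neg h2, if_neg h3] at h4
    omega

theorem Dg3.mw_inj {c x y x' y' : Fin 3} (h : mw p i c x y = mw p i c x' y') : x = x' ∧ y = y' := by
  have h1 := D.dg_mw c x y (i (c + 1))
  have h2 := D.dg_mw c x y (i (c + 2))
  rw [h, D.dg_mw] at h1 h2
  rw [if_pos rfl, if_pos rfl] at h1
  rw [if_neg (D.ne1 c).symm, if_pos rfl, if_neg (D.ne1 c).symm, if_pos rfl] at h2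
  exact ⟨Fin.ext h1.symm, Fin.ext h2.symm⟩

theorem Dg3.card_Bf [DecidableEq k] (c : Fin 3) : (Bf k (bw p i c)).card = 9 := by
  have h1 : Bf k (bw p i c) = (Finset.univ : Finset (Fin 3 × Fin 3)).image fun x => mw p i c x.1 x.2 := by
    ext m
    rw [mem_Bf, Finset.mem_image]
    constructor
    · intro h
      obtain ⟨x, y, rfl⟩ := D.of_mem_Bb h
      exact ⟨(x, y), Finset.mem_univ _, rfl⟩
    · rintro ⟨x, -, rfl⟩
      exact D.mem_Bb c x.1 x.2
  rw [h1, Finset.card_image_of_injective]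
  · rfl
  · intro x y h
    obtain ⟨h2, h3⟩ := D.mw_inj h
    exact Prod.ext h2 h3

end

variable {k : Type*} [Field k] [DecidableEq k] {K : Type*} [Field K] [Fintype K] [DecidableEq K] (ι : K →+* k)
variable (p : ℕ) [Fact p.Prime] [CharP k p] [CharP K p] (i : Fin 3 → ℕ)
variable {V : Type*} [AddCommGroup V] [Module k V] (ρ : Representation k (SpecialLinearGroup (Fin 2) K) V)

open Classical in
/-- the monomials in `V_b` -/
noncomputable def mv (c x y : Fin 3) : Vb ι (bw p i c) :=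
  if h : mon ι (bw p i c) (mw p i c x y) ∈ Vb ι (bw p i c) then ⟨_, h⟩ else 0

/-- the basis vectors -/
noncomputable def evc (φ : ∀ c : Fin 3, Vb ι (bw p i c) →ₗ[k] V) (c x y : Fin 3) : V := φ c (mv ι p i c x y)

/-- `V = V_{b 0} ⊕ V_{b 1} ⊕ V_{b 2}` -/
structure TT (φ : ∀ c : Fin 3, Vb ι (bw p i c) →ₗ[k] V) : Prop where
  eqv : ∀ c g (x y : Vb ι (bw p i c)), (y : K × K → k) = fRep k K g x → φ c y = ρ g (φ c x)
  bas : ∃ B : Module.Basis (Fin 3 × Fin 3 × Fin 3) k V, ∀ c x y, B (c, x, y) = evc ι p i φ c x y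

section

variable {p i ρ} {a : ℕ} (hK : Fintype.card K = p ^ a) (D : Dg3 p a i)

include hK D

theorem mem_Vb' (c x y : Fin 3) : mon ι (bw p i c) (mw p i c x y) ∈ Vb ι (bw p i c) :=
  Cfsg.Agent.H179.SLC.mon_mem_Vb ι p (neg_one_pow_Q ι) (by rw [hK]; exact (D.bw_lt c).le) (D.mem_Bb c x y)

theorem coe_mv (c x y : Fin 3) : (mv ι p i c x y : K × K → k) = mon ι (bw p i c) (mw p i c x y) := by
  unfold mv
  rw [dif_pos (mem_Vb' ι hK D c x y)]

/-- a general element of `V_b` -/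
theorem exists_sum (c : Fin 3) (f : Vb ι (bw p i c)) : ∃ κ : Fin 3 × Fin 3 → k, f = ∑ x, κ x • mv ι p i c x.1 x.2 := by
  obtain ⟨e, he⟩ := Cfsg.Agent.H179.SLC.exists_coord ι p ι.injective (neg_one_pow_Q ι) (b := bw p i c)
    (by rw [hK]; exact (D.bw_lt c).le)
  obtain ⟨y, rfl⟩ := e.surjective f
  refine ⟨fun x => y ⟨mw p i c x.1 x.2, mem_Bf.2 (D.mem_Bb c x.1 x.2)⟩, Subtype.ext ?_⟩
  rw [he, Submodule.coe_sum]
  let j : Fin 3 × Fin 3 ≃ Bf k (bw p i c) := Equiv.ofBijective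
    (fun x => ⟨mw p i c x.1 x.2, mem_Bf.2 (D.mem_Bb c x.1 x.2)⟩) ⟨by
      intro x y h
      obtain ⟨h2, h3⟩ := D.mw_inj (congrArg Subtype.val h)
      exact Prod.ext h2 h3, by
      rintro ⟨m, hm⟩
      obtain ⟨x, y, rfl⟩ := D.of_mem_Bb (mem_Bf.1 hm)
      exact ⟨(x, y), rfl⟩⟩
  rw [← j.sum_comp]
  refine Finset.sum_congr rfl fun x _ => ?_
  rw [Submodule.coe_smul, coe_mv ι hK D]
  rfl

/-- the operators `D_n` on the monomials -/
theorem Dm_mv {φ : ∀ c : Fin 3, Vb ι (bw p i c) →ₗ[k] V} (T : TT ι p i ρ φ) {c x y : Fin 3} {n : ℕ} (hn : 1 ≤ n)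
    (hn' : n ≤ Fintype.card K - 1) (f : Vb ι (bw p i c))
    (hf : (f : K × K → k) = ((bw p i c - mw p i c x y).choose n : k) • mon ι (bw p i c) (mw p i c x y + n)) :
    Dm ι ρ n (evc ι p i φ c x y) = φ c f := by
  have hb : bw p i c ≤ Fintype.card K - 1 := by rw [hK]; exact (D.bw_lt c).le
  have h1 := Dm_comm ι (RB ι p hb) ρ (φ c) (fun g x => T.eqv c g x _ rfl) n (mv ι p i c x y)
  have h2 : Dm ι (RB ι p hb) n (mv ι p i c x y) = f := by
    apply Subtype.ext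
    have h8 : ((Dm ι (RB ι p hb) n (mv ι p i c x y) : Vb ι (bw p i c)) : K × K → k) =
        Dm ι (fRep k K) n (mv ι p i c x y : K × K → k) := by
      rw [Dm_apply, Dm_apply]
      push_cast
      rfl
    rw [h8, coe_mv ι hK D, Dm_mon ι hb (D.mw_le c x y) hn hn', hf]
  rw [h2] at h1
  exact h1.symm

/-- large digits -/
theorem Dm_big {φ : ∀ c : Fin 3, Vb ι (bw p i c) →ₗ[k] V} (T : TT ι p i ρ φ) {n : ℕ} (hn : 1 ≤ n)
    (hn' : n ≤ Fintype.card K - 1) (hs : ¬ Sm p n) : Dm ι ρ n = 0 := by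
  obtain ⟨B, hB⟩ := T.bas
  refine B.ext fun ⟨c, x, y⟩ => ?_
  rw [hB, LinearMap.zero_apply, Dm_mv ι hK D T hn hn' 0, map_zero]
  have h1 : (((bw p i c - mw p i c x y).choose n : ℕ) : k) = 0 := by
    by_contra hne
    rw [← Ne, choose_ne_iff p] at hne
    apply hs
    intro l
    have h2 := hne l
    rw [sub_mw, D.dg_mw] at h2
    have h3 := (2 - x).2
    have h4 := (2 - y).2
    split_ifs at h2 <;> omega
  rw [h1, zero_smul]
  rfl

theorem cE_eq (x : Fin 3) : cE k x = (((2 - x : Fin 3) : ℕ) : k) := by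
  fin_cases x
  · show (2 : k) = ((2 : ℕ) : k)
    norm_num
  · show (1 : k) = ((1 : ℕ) : k)
    norm_num
  · show (0 : k) = ((0 : ℕ) : k)
    norm_num

theorem pow_le_card (c : Fin 3) : 1 ≤ p ^ i c ∧ p ^ i c ≤ Fintype.card K - 1 := by
  have h5 := D.three
  refine ⟨Nat.one_le_pow _ _ (by omega), ?_⟩
  rw [hK]
  exact Nat.le_sub_one_of_lt (Nat.pow_lt_pow_right (by omega) (D.lt c))

theorem evE1 {φ : ∀ c : Fin 3, Vb ι (bw p i c) →ₗ[k] V} (T : TT ι p i ρ φ) (c x y : Fin 3) :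
    Dm ι ρ (p ^ i (c + 1)) (evc ι p i φ c x y) = cE k x • evc ι p i φ c (x + 1) y := by
  obtain ⟨h1, h2⟩ := pow_le_card hK D (c + 1)
  have h3 : (((bw p i c - mw p i c x y).choose (p ^ i (c + 1)) : ℕ) : k) = cE k x := by
    rw [choose_pow, sub_mw, D.dg_mw, if_pos rfl, cE_eq hK D]
  rw [Dm_mv ι hK D T h1 h2 (cE k x • mv ι p i c (x + 1) y), map_smul]
  · rfl
  · rw [h3, Submodule.coe_smul, coe_mv ι hK D]
    have key : ∀ x : Fin 3, x = 2 ∨ ((x + 1 : Fin 3) : ℕ) = x + 1 := by decide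
    rcases key x with rfl | h4
    · rw [show cE k 2 = 0 from rfl, zero_smul, zero_smul]
    · congr 2
      unfold mw
      rw [h4]
      ring

theorem evE2 {φ : ∀ c : Fin 3, Vb ι (bw p i c) →ₗ[k] V} (T : TT ι p i ρ φ) (c x y : Fin 3) :
    Dm ι ρ (p ^ i (c + 2)) (evc ι p i φ c x y) = cE k y • evc ι p i φ c x (y + 1) := by
  obtain ⟨h1, h2⟩ := pow_le_card hK D (c + 2)
  have h3 : (((bw p i c - mw p i c x y).choose (p ^ i (c + 2)) : ℕ) : k) = cE k y := by
    rw [choose_pow, sub_mw, D.dg_mw, if_neg (D.ne1 c).symm, if_pos rfl, cE_eq hK D]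
  rw [Dm_mv ι hK D T h1 h2 (cE k y • mv ι p i c x (y + 1)), map_smul]
  · rfl
  · rw [h3, Submodule.coe_smul, coe_mv ι hK D]
    have key : ∀ x : Fin 3, x = 2 ∨ ((x + 1 : Fin 3) : ℕ) = x + 1 := by decide
    rcases key y with rfl | h4
    · rw [show cE k 2 = 0 from rfl, zero_smul, zero_smul]
    · congr 2
      unfold mw
      rw [h4]
      ring

theorem evE0 {φ : ∀ c : Fin 3, Vb ι (bw p i c) →ₗ[k] V} (T : TT ι p i ρ φ) (c x y : Fin 3) :
    Dm ι ρ (p ^ i c) (evc ι p i φ c x y) = 0 := by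
  obtain ⟨h1, h2⟩ := pow_le_card hK D c
  have h3 : (((bw p i c - mw p i c x y).choose (p ^ i c) : ℕ) : k) = 0 := by
    rw [choose_pow, sub_mw, D.dg_mw, if_neg, if_neg, Nat.cast_zero]
    · exact fun h => ne02 c (D.inj h)
    · exact fun h => ne01 c (D.inj h)
  rw [Dm_mv ι hK D T h1 h2 0, map_zero]
  rw [h3, zero_smul]
  rfl

/-- signs -/
def sg (k : Type*) [Field k] : Fin 3 → k := ![1, -1, 1]

theorem sg_eq (x : Fin 3) : sg k x = (-1) ^ (x : ℕ) := by
  fin_cases x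
  · show (1 : k) = (-1) ^ 0
    norm_num
  · show (-1 : k) = (-1) ^ 1
    norm_num
  · show (1 : k) = (-1) ^ 2
    norm_num

theorem ev_w {φ : ∀ c : Fin 3, Vb ι (bw p i c) →ₗ[k] V} (T : TT ι p i ρ φ) (c x y : Fin 3) :
    ρ w (evc ι p i φ c x y) = (sg k x * sg k y) • evc ι p i φ c (2 - x) (2 - y) := by
  have hp : p.Prime := Fact.out
  have h5 := D.three
  have h1 := T.eqv c w (mv ι p i c x y) ((sg k x * sg k y) • mv ι p i c (2 - x) (2 - y)) (by
    rw [Submodule.coe_smul, coe_mv ι hK D, coe_mv ι hK D]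
    funext z
    obtain ⟨s, t⟩ := z
    rw [fRep_w]
    show (sg k x * sg k y) * (ι s ^ mw p i c (2 - x) (2 - y) * ι t ^ (bw p i c - mw p i c (2 - x) (2 - y))) =
      ι (-t) ^ mw p i c x y * ι s ^ (bw p i c - mw p i c x y)
    have e1 : bw p i c - mw p i c (2 - x) (2 - y) = mw p i c x y := by
      rw [sub_mw, sub_sub_cancel, sub_sub_cancel]
    rw [e1, sub_mw, map_neg, neg_pow (ι t)]
    have hodd : ∀ j n : ℕ, ((-1 : k)) ^ (n * p ^ j) = (-1) ^ n := by
      intro j n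
      rw [mul_comm, pow_mul, ((hp.odd_of_ne_two (by omega)).pow).neg_one_pow]
    have e2 : (-1 : k) ^ mw p i c x y = sg k x * sg k y := by
      unfold mw
      rw [pow_add, hodd, hodd, sg_eq hK D, sg_eq hK D]
    rw [e2]
    ring)
  rw [map_smul] at h1
  exact h1.symm

theorem ev_winv {φ : ∀ c : Fin 3, Vb ι (bw p i c) →ₗ[k] V} (T : TT ι p i ρ φ) (c x y : Fin 3) :
    ρ w⁻¹ (evc ι p i φ c x y) = (sg k x * sg k y) • evc ι p i φ c (2 - x) (2 - y) := by
  have h1 := ev_w ι hK D T c (2 - x) (2 - y)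
  rw [sub_sub_cancel, sub_sub_cancel] at h1
  have h2 : ρ w⁻¹ (ρ w (evc ι p i φ c (2 - x) (2 - y))) = evc ι p i φ c (2 - x) (2 - y) := by
    rw [← Module.End.mul_apply, ← map_mul, inv_mul_cancel, map_one, Module.End.one_apply]
  rw [h1, map_smul] at h2
  have h3 : ∀ x : Fin 3, sg k (2 - x) = sg k x := by
    intro x
    fin_cases x
    · rfl
    · rfl
    · rfl
  have h4 : ∀ x : Fin 3, sg k x * sg k x = 1 := by
    intro x
    rw [sg_eq hK D, ← mul_pow]
    norm_num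
  rw [h3, h3] at h2
  rw [← h2, smul_smul]
  rw [show (sg k x * sg k y) * (sg k x * sg k y) = (sg k x * sg k x) * (sg k y * sg k y) by ring, h4, h4, mul_one, one_smul]

theorem cF_eq (x : Fin 3) : sg k x * (cE k (2 - x) * sg k (2 - x + 1)) = cF k x := by
  fin_cases x
  · show (1 : k) * (cE k (2 - 0) * _) = 0
    rw [show (2 - 0 : Fin 3) = 2 from rfl, show cE k 2 = 0 from rfl]
    ring
  · show (-1 : k) * (cE k (2 - 1) * sg k (2 - 1 + 1)) = -1
    rw [show (2 - 1 : Fin 3) = 1 from rfl, show (1 + 1 : Fin 3) = 2 from rfl, show cE k 1 = 1 from rfl,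
      show sg k 2 = 1 from rfl]
    ring
  · show (1 : k) * (cE k (2 - 2) * sg k (2 - 2 + 1)) = -2
    rw [show (2 - 2 : Fin 3) = 0 from rfl, show (0 + 1 : Fin 3) = 1 from rfl, show cE k 0 = 2 from rfl,
      show sg k 1 = -1 from rfl]
    ring

/-- **the operators** -/
theorem ops {φ : ∀ c : Fin 3, Vb ι (bw p i c) →ₗ[k] V} (T : TT ι p i ρ φ) :
    Ops (evc ι p i φ) (fun d => Dm ι ρ (p ^ i d)) (fun d => ρ w⁻¹ ∘ₗ Dm ι ρ (p ^ i d) ∘ₗ ρ w) where
  E1 := evE1 ι hK D T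
  E2 := evE2 ι hK D T
  E0 := evE0 ι hK D T
  F1 c x y := by
    have h4 : ∀ x : Fin 3, sg k x * sg k x = 1 := by
      intro x
      rw [sg_eq hK D, ← mul_pow]
      norm_num
    have h3 : ∀ x : Fin 3, sg k (2 - x) = sg k x := by
      intro x
      fin_cases x
      · rfl
      · rfl
      · rfl
    have key : ∀ x : Fin 3, 2 - (2 - x + 1) = x - 1 := by decide
    show ρ w⁻¹ (Dm ι ρ (p ^ i (c + 1)) (ρ w (evc ι p i φ c x y))) = _
    rw [ev_w ι hK D T, map_smul, map_smul, evE1 ι hK D T, map_smul, ev_winv ι hK D T, smul_smul, smul_smul, key,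
      sub_sub_cancel, h3 y, ← cF_eq hK D x]
    congr 1
    linear_combination (sg k x * cE k (2 - x) * sg k (2 - x + 1)) * h4 y
  F2 c x y := by
    have h4 : ∀ x : Fin 3, sg k x * sg k x = 1 := by
      intro x
      rw [sg_eq hK D, ← mul_pow]
      norm_num
    have h3 : ∀ x : Fin 3, sg k (2 - x) = sg k x := by
      intro x
      fin_cases x
      · rfl
      · rfl
      · rfl
    have key : ∀ x : Fin 3, 2 - (2 - x + 1) = x - 1 := by decide
    show ρ w⁻¹ (Dm ι ρ (p ^ i (c + 2)) (ρ w (evc ι p i φ c x y))) = _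
    rw [ev_w ι hK D T, map_smul, map_smul, evE2 ι hK D T, map_smul, ev_winv ι hK D T, smul_smul, smul_smul, key,
      sub_sub_cancel, h3 x, ← cF_eq hK D y]
    congr 1
    linear_combination (sg k y * cE k (2 - y) * sg k (2 - y + 1)) * h4 x
  F0 c x y := by
    show ρ w⁻¹ (Dm ι ρ (p ^ i c) (ρ w (evc ι p i φ c x y))) = _
    rw [ev_w ι hK D T, map_smul, map_smul, evE0 ι hK D T, map_zero, smul_zero]

/-- the weights -/
theorem ev_h {φ : ∀ c : Fin 3, Vb ι (bw p i c) →ₗ[k] V} (T : TT ι p i ρ φ) (t : Kˣ) (c x y : Fin 3) :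
    ρ (h t) (evc ι p i φ c x y) = (ι t ^ W p i c x y) • evc ι p i φ c x y := by
  have ht : ι (t : K) ≠ 0 := (map_ne_zero ι).2 t.ne_zero
  have h1 := T.eqv c (h t) (mv ι p i c x y) ((ι t ^ W p i c x y) • mv ι p i c x y) (by
    rw [Submodule.coe_smul, coe_mv ι hK D, h_mon]
    congr 1
    rw [sub_mw, inv_pow, ← zpow_natCast, ← zpow_natCast, ← _root_.zpow_neg, ← zpow_add₀ ht]
    congr 1
    unfold W mw
    have key : ∀ x : Fin 3, 2 * wt x = (x : ℕ) - ((2 - x : Fin 3) : ℕ) := by decide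
    push_cast
    linear_combination (p : ℤ) ^ i (c + 1) * key x + (p : ℤ) ^ i (c + 2) * key y)
  rw [map_smul] at h1
  exact h1.symm

end

end Cfsg.Agent.R2.H14.T
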