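import Cfsg.Agent.R2.H14.T.Tor
import Cfsg.Agent.R2.H14.T.TB

/-!
# T-type: the torus, `p ≥ 5` (helper14)

`TorH` : the diagonal elements with the same `diag (τ 0, τ 1, τ 2)` for the three digits belong to `Zgrp k`; `torH_of_five`.
-/

set_option autoImplicit false
set_option linter.unusedSectionVars false

namespace Cfsg.Agent.R2.H14.T

open Cfsg Cfsg.Lie Module Matrix
open Cfsg.Agent.H943.SL2Rel Cfsg.Agent.H943.SL2Mod Cfsg.Agent.H943.RepAdd Cfsg.Agent.R2.H28.SL2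
open Cfsg.Agent.ChevalleyStructure.E6Min.Basic
open Cfsg.Agent.H163.E6

universe u

variable {k : Type u} [Field k]

/-- the torus elements (the same `τ` for the three digits) -/
def TorH (e : Fin 3 → Fin 3 → Fin 3 → (I27 → k)) : Prop :=
  ∀ τ : Fin 3 → k, (∀ a, τ a ≠ 0) → τ 0 * τ 1 * τ 2 = 1 →
    ∃ g : ↥(Zgrp k), ∀ c x y, V k g (e c x y) = (τ x * (τ (2 - y))⁻¹) • e c x y

variable [DecidableEq k] {K : Type*} [Field K] [Fintype K] [DecidableEq K] (ι : K →+* k)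
variable {p : ℕ} [Fact p.Prime] [CharP k p] [CharP K p] {i : Fin 3 → ℕ}
variable {ρ : Representation k (SpecialLinearGroup (Fin 2) K) (I27 → k)}
variable {a : ℕ} (hK : Fintype.card K = p ^ a) (D : Dg3 p a i)

include hK D

theorem torH_of_five (hp5 : 5 ≤ p) {φ : ∀ c : Fin 3, Vb ι (bw p i c) →ₗ[k] (I27 → k)} (T : TT ι p i ρ φ)
    (hT : ∀ g x y z, T3 k (ρ g x) (ρ g y) (ρ g z) = T3 k x y z) : TorH (evc ι p i φ) := by
  intro τ hτ0 hτ
  obtain ⟨B, hB⟩ := T.bas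
  have hne : ∀ n : ℕ, 0 < n → n < p → (n : k) ≠ 0 := by
    intro n h0 h1 h
    rw [CharP.cast_eq_zero_iff k p] at h
    exact absurd (Nat.le_of_dvd h0 h) (by omega)
  have h2 : (2 : k) ≠ 0 := by
    have := hne 2 (by norm_num) (by omega)
    exact_mod_cast this
  have h3 : (3 : k) ≠ 0 := by
    have := hne 3 (by norm_num) (by omega)
    exact_mod_cast this
  have hbig : ∀ m, 1 ≤ m → m ≤ Fintype.card K - 1 → ¬ Sm p m → Dm ι ρ m = 0 :=
    fun m h1 h2 h3 => Dm_big ι hK D T h1 h2 h3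
  have I : Inv (T3 k) (fun d => Dm ι ρ (p ^ i d)) (fun d => ρ w⁻¹ ∘ₗ Dm ι ρ (p ^ i d) ∘ₗ ρ w) :=
    { s12 := T3_s12
      s23 := T3_s23
      iE := fun d x y z => der ι ρ p hp5 hK hbig (T3 k) hT (D.lt d) x y z
      iF := fun d x y z => der' ι ρ p hp5 hK hbig (T3 k) hT (D.lt d) x y z }
  have O := ops ι hK D T
  obtain ⟨g, hg⟩ := torus_mem (B := B) (μ := fun x => τ x.2.1 * (τ (2 - x.2.2))⁻¹) h2 h3
    (fun x => mul_ne_zero (hτ0 _) (inv_ne_zero (hτ0 _))) (by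
      rintro ⟨c₁, x₁, y₁⟩ ⟨c₂, x₂, y₂⟩ ⟨c₃, x₃, y₃⟩ h
      rw [hB, hB, hB] at h
      exact tri_main O I h2 h3 hτ0 hτ h)
  refine ⟨g, fun c x y => ?_⟩
  rw [hg, ← hB, dg_apply]

end Cfsg.Agent.R2.H14.T
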