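import Cfsg.Agent.H65.E6Full
import Cfsg.Agent.H163.E6.Bgrp
import Cfsg.Agent.H944.E6TwC
import Cfsg.Agent.R2.H14.T.TorA
import Cfsg.Agent.R2.H14.T.Dual

/-!
# T-type: rational torus elements (helper14)

`rat_untw`, `rat_tw` : elements of `E₆(q)` and `²E₆(q)` which are diagonal with respect to the basis `e c x y`.
-/

set_option autoImplicit false
set_option linter.unusedSectionVars false

namespace Cfsg.Agent.R2.H14.T

open Cfsg Cfsg.Lie Module Matrix
open Cfsg.Agent.H943.SL2Rel Cfsg.Agent.H943.SL2Mod Cfsg.Agent.H943.RepAdd Cfsg.Agent.R2.H28.SL2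
open Cfsg.Agent.ChevalleyStructure.E6Min.Basic
open Cfsg.Agent.H163.E6 Cfsg.Agent.H65.E6Emb
open Cfsg.Agent.H944.E6Tw (J J_apply J_add J_smul J_eq V_J V'_J sE mem_Gs Gs QM QU coe_QU QU_sq gU_QU sZ sZ_apply coe_sE
  qe qe_sq gm_mulVec QM_mulVec)
open Cfsg.Agent.H944.E6T (gm coe_gm)
open Cfsg.Agent.H184.GraphE6 (gU gU_mul gU_gU)

universe u v w

section gen

variable {k : Type u} [Field k]

/-- the semilinear map `x ↦ θ x` -/
def semi (θ : k →+* k) : (I27 → k) →ₛₗ[θ] (I27 → k) where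
  toFun x := fun j => θ (x j)
  map_add' x y := by
    funext j
    exact map_add θ _ _
  map_smul' c x := by
    funext j
    exact map_mul θ _ _

theorem semi_apply (θ : k →+* k) (x : I27 → k) : semi θ x = fun j => θ (x j) := rfl

/-- the semilinear map `J` -/
def semJ (θ : k →+* k) : (I27 → k) →ₛₗ[θ] (I27 → k) where
  toFun x := J θ x
  map_add' x y := J_add θ x y
  map_smul' c x := J_smul θ c x

theorem semJ_apply (θ : k →+* k) (x : I27 → k) : semJ θ x = J θ x := rfl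

theorem semi_inj (θ : k →+* k) (x : I27 → k) (h : semi θ x = 0) : x = 0 := by
  funext j
  apply θ.injective
  show θ (x j) = θ 0
  rw [map_zero]
  exact congrFun h j

theorem semJ_inj (θ : k →+* k) (x : I27 → k) (h : semJ θ x = 0) : x = 0 := by
  funext j
  apply θ.injective
  have h1 := congrFun h j
  rw [semJ_apply, J_apply] at h1
  have h2 : (((qe j : ℤ) : k)) * ((qe j : ℤ) : k) = 1 := by rw [← Int.cast_mul, qe_sq, Int.cast_one]
  have h3 : ((qe j : ℤ) : k) * (((qe j : ℤ) : k) * θ (x j)) = 0 := by rw [h1]; exact mul_zero _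
  rw [← mul_assoc, h2, one_mul] at h3
  show θ (x j) = θ 0
  rw [h3, map_zero]

theorem J_J' (θ : k →+* k) (x : I27 → k) : J θ (J θ x) = fun j => θ (θ (x j)) := by
  funext j
  rw [J_apply, J_apply, map_mul, map_intCast, ← mul_assoc, ← Int.cast_mul, qe_sq, Int.cast_one, one_mul]

/-- the entries -/
theorem V_single (g : ↥(Zgrp k)) (i j : I27) :
    V k g (Pi.single j 1) i = ((g : GL I27 k) : Matrix I27 I27 k) i j := by
  rw [V_apply, Matrix.mulVec_single_one]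
  rfl

theorem entry_of_comm {θ : k →+* k} {g : ↥(Zgrp k)} (h : ∀ x, V k g (semi θ x) = semi θ (V k g x)) (i j : I27) :
    θ (((g : GL I27 k) : Matrix I27 I27 k) i j) = ((g : GL I27 k) : Matrix I27 I27 k) i j := by
  have h1 := congrFun (h (Pi.single j 1)) i
  rw [semi_apply, semi_apply] at h1
  have h2 : (fun l => θ ((Pi.single j 1 : I27 → k) l)) = (Pi.single j 1 : I27 → k) := by
    funext l
    by_cases hl : l = j
    · rw [hl, Pi.single_eq_same, map_one]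
    · rw [Pi.single_eq_of_ne hl, map_zero]
  have h3 : V k g (fun l => θ ((Pi.single j 1 : I27 → k) l)) i = θ (V k g (Pi.single j 1) i) := h1
  rw [h2, V_single] at h3
  exact h3.symm

variable {F : Type v} [Field F] (f0 : F →+* k)

/-- the Steinberg endomorphism and the change of fields -/
theorem emb_sE {f : F →+* F} {θ : k →+* k} (h : ∀ t, θ (f0 t) = f0 (f t)) (g : ↥(Zgrp F)) :
    emb f0 (sE f g) = sE θ (emb f0 g) := by
  apply Subtype.ext
  have h1 : Matrix.GeneralLinearGroup.map f0 (QU F) = QU k := by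
    apply Units.ext
    show (QM F).map f0 = QM k
    unfold QM
    rw [Matrix.diagonal_map (map_zero f0)]
    congr 1
    funext x
    exact map_intCast f0 _
  have h2 : ∀ g : GL I27 F, Matrix.GeneralLinearGroup.map f0 (gm f g) = gm θ (Matrix.GeneralLinearGroup.map f0 g) := by
    intro g
    apply Units.ext
    ext i j
    exact (h _).symm
  rw [coe_emb', coe_sE, coe_sE, sZ_apply, sZ_apply, coe_emb', map_mul, map_mul, h1, ← gU_map, h2]

theorem emb_mem_Gs {f : F →+* F} {θ : k →+* k} (h : ∀ t, θ (f0 t) = f0 (f t)) (g : ↥(Zgrp F)) :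
    emb f0 g ∈ Gs θ ↔ g ∈ Gs f := by
  rw [mem_Gs, mem_Gs, ← emb_sE f0 h, (emb_injective f0).eq_iff]

/-- a criterion for `Gs θ` -/
theorem mem_Gs_of_semi {θ : k →+* k} {g : ↥(Zgrp k)} (h : ∀ x, V' k g (J θ x) = J θ (V k g x)) : g ∈ Gs θ := by
  have h0 : ((gU (g : GL I27 k) : GL I27 k) : Matrix I27 I27 k) * QM k =
      QM k * ((gm θ (g : GL I27 k) : GL I27 k) : Matrix I27 I27 k) := by
    apply Matrix.toLin'.injective
    refine (Pi.basisFun k I27).ext fun j => ?_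
    rw [Pi.basisFun_apply, Matrix.toLin'_apply, Matrix.toLin'_apply]
    have h1 := h (Pi.single j 1)
    have h2 : (fun l => θ ((Pi.single j 1 : I27 → k) l)) = (Pi.single j 1 : I27 → k) := by
      funext l
      by_cases hl : l = j
      · rw [hl, Pi.single_eq_same, map_one]
      · rw [Pi.single_eq_of_ne hl, map_zero]
    rw [J_eq, J_eq, V_apply, V'_apply, ← gm_mulVec, h2, Matrix.mulVec_mulVec, Matrix.mulVec_mulVec] at h1
    exact h1
  have h1 : gU (g : GL I27 k) * QU k = QU k * gm θ (g : GL I27 k) := Units.ext h0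
  have h2 : gm θ (g : GL I27 k) = QU k * gU (g : GL I27 k) * QU k := by
    rw [mul_assoc, h1, ← mul_assoc, QU_sq, one_mul]
  rw [mem_Gs]
  apply Subtype.ext
  rw [coe_sE, sZ_apply, h2, gU_mul, gU_mul, gU_QU, gU_gU]
  calc QU k * (QU k * (g : GL I27 k) * QU k) * QU k = (QU k * QU k) * (g : GL I27 k) * (QU k * QU k) := by group
    _ = g := by rw [QU_sq, one_mul, mul_one]

/-- the duality of `V` and `V'` -/
theorem dul {G : Type*} [Group G] (r : G →* ↥(Zgrp k)) : Dul ((V k).comp r) ((V' k).comp r) (tfL k) where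
  inv g x y := Cfsg.Agent.H163.E6.Act.tf_act (r g) x y
  left _ h := Cfsg.Agent.H952.F4.Jord.tf_nondeg h
  right y h := Cfsg.Agent.H952.F4.Jord.tf_nondeg fun x => by
    rw [Cfsg.Agent.H952.F4.Jord.tf_comm]
    exact h x

end gen

variable {k : Type u} [Field k] [DecidableEq k] [IsAlgClosed k] {K : Type w} [Field K] [Fintype K] [DecidableEq K]
  (ι : K →+* k)
variable {p : ℕ} [Fact p.Prime] [CharP k p] [CharP K p] {i : Fin 3 → ℕ}
variable {F : Type v} [Field F] [Fintype F] (f0 : F →+* k) {b : ℕ}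
variable {ρ0 : SpecialLinearGroup (Fin 2) K →* ↥(Zgrp F)}
variable {a : ℕ} (hK : Fintype.card K = p ^ a) (D : Dg3 p a i)
variable {φ : ∀ c : Fin 3, Vb ι (bw p i c) →ₗ[k] (I27 → k)}

include hK D

/-- **`E₆(q)`** -/
theorem rat_untw (hF : Fintype.card F = p ^ b) (T : TT ι p i ((V k).comp ((emb f0).comp ρ0)) φ)
    (hH : TorH (evc ι p i φ)) : ∃ (g0 : ↥(Zgrp F)) (τ : Fin 3 → k), (∀ x, τ x ≠ 0) ∧ τ 2 * τ 0 ≠ τ 1 * τ 1 ∧
      ∀ c x y, V k (emb f0 g0) (evc ι p i φ c x y) = (τ x * (τ (2 - y))⁻¹) • evc ι p i φ c x y := by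
  have h3 := D.three
  have hp : p.Prime := Fact.out
  have : ExpChar k p := ExpChar.prime hp
  obtain ⟨θ, hθ⟩ : ∃ θ : k →+* k, ∀ t, θ t = t ^ (p ^ b) := ⟨iterateFrobenius k p b, fun t => rfl⟩
  have hp2 : (2 : k) ≠ 0 := by
    intro h
    have : ((2 : ℕ) : k) = 0 := by exact_mod_cast h
    rw [CharP.cast_eq_zero_iff k p] at this
    have := Nat.le_of_dvd (by norm_num) this
    omega
  obtain ⟨τ, hτ⟩ : ∃ τ : Fin 3 → k, τ = ![1, -1, -1] := ⟨_, rfl⟩
  have t0 : τ 0 = 1 := by rw [hτ]; rfl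
  have t1 : τ 1 = -1 := by rw [hτ]; rfl
  have t2 : τ 2 = -1 := by rw [hτ]; rfl
  have ht : ∀ x, τ x ≠ 0 := by
    intro x
    fin_cases x
    · exact t0.trans_ne one_ne_zero
    · exact t1.trans_ne (neg_ne_zero.2 one_ne_zero)
    · exact t2.trans_ne (neg_ne_zero.2 one_ne_zero)
  have hsq : ∀ x, θ (τ x) = τ x := by
    intro x
    fin_cases x
    · show θ (τ 0) = τ 0
      rw [t0, map_one]
    · show θ (τ 1) = τ 1
      rw [t1, map_neg, map_one]
    · show θ (τ 2) = τ 2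
      rw [t2, map_neg, map_one]
  obtain ⟨g, hg⟩ := hH τ ht (by rw [t0, t1, t2]; ring)
  have hJρ : ∀ s x, semi θ (((V k).comp ((emb f0).comp ρ0)) s x) = ((V k).comp ((emb f0).comp ρ0)) s (semi θ x) := by
    intro s x
    show semi θ (V k (emb f0 (ρ0 s)) x) = V k (emb f0 (ρ0 s)) (semi θ x)
    have h1 := V_emb θ (emb f0 (ρ0 s)) x
    rw [emb_frob f0 θ (fun x => by rw [hθ, hF])] at h1
    exact h1.symm
  obtain ⟨π, hπ⟩ := exists_perm ι hK D T T hθ (semi θ) (semi_inj θ) hJρ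
  obtain ⟨B, hB⟩ := T.bas
  have hcomm : (V k g).comp (semi θ) = (semi θ).comp (V k g) := by
    refine B.ext fun z => ?_
    obtain ⟨c, x, y⟩ := z
    rw [hB]
    obtain ⟨κ, hκ⟩ := hπ c x y
    show V k g (semi θ (evc ι p i φ c x y)) = semi θ (V k g (evc ι p i φ c x y))
    rw [hκ, map_smul, hg, hg, LinearMap.map_smulₛₗ, hκ, map_mul, map_inv₀, hsq, hsq, smul_smul, smul_smul, mul_comm]
  obtain ⟨g0, hg0⟩ := Cfsg.Agent.H65.E6Full.exists_of_pow_all f0 g fun i' j' => by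
    have h1 := entry_of_comm (fun x => LinearMap.congr_fun hcomm x) i' j'
    rwa [hθ, ← hF] at h1
  refine ⟨g0, τ, ht, ?_, fun c x y => by rw [hg0, hg]⟩
  rw [t0, t1, t2]
  intro h
  apply hp2
  linear_combination -h

/-- **`²E₆(q)`** -/
theorem rat_tw (hb : 1 ≤ b) (hF : Fintype.card F = (p ^ b) ^ 2) {f : F →+* F} (hf : ∀ t, f t = t ^ (p ^ b))
    (hρ0 : ∀ s, ρ0 s ∈ Gs f) (T : TT ι p i ((V k).comp ((emb f0).comp ρ0)) φ)
    (hH : TorH (evc ι p i φ)) : ∃ g0 ∈ Gs f, ∃ τ : Fin 3 → k, (∀ x, τ x ≠ 0) ∧ τ 2 * τ 0 ≠ τ 1 * τ 1 ∧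
      ∀ c x y, V k (emb f0 g0) (evc ι p i φ c x y) = (τ x * (τ (2 - y))⁻¹) • evc ι p i φ c x y := by
  have h3 := D.three
  have hp : p.Prime := Fact.out
  have : ExpChar k p := ExpChar.prime hp
  obtain ⟨θ, hθ⟩ : ∃ θ : k →+* k, ∀ t, θ t = t ^ (p ^ b) := ⟨iterateFrobenius k p b, fun t => rfl⟩
  obtain ⟨q0, hq0⟩ : ∃ q0, q0 = p ^ b := ⟨_, rfl⟩
  rw [← hq0] at hF hf hθ
  have hq3 : 3 ≤ q0 := by
    rw [hq0]
    calc 3 ≤ p := h3
      _ = p ^ 1 := (pow_one p).symm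
      _ ≤ p ^ b := Nat.pow_le_pow_right (by omega) hb
  have hθf : ∀ t, θ (f0 t) = f0 (f t) := fun t => by rw [hθ, hf, map_pow]
  -- the element `s`
  obtain ⟨s0, hs0⟩ := IsCyclic.exists_generator (α := Fˣ)
  have hord : orderOf s0 = q0 ^ 2 - 1 := by
    classical
    rw [orderOf_eq_card_of_forall_mem_zpowers hs0, Nat.card_eq_fintype_card, Fintype.card_units, hF]
  obtain ⟨s, hs⟩ : ∃ s : kˣ, s = Units.map (f0 : F →* k) s0 := ⟨_, rfl⟩
  have hs1 : s ^ (q0 ^ 2 - 1) = 1 := by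
    rw [hs, ← map_pow, ← hord, pow_orderOf_eq_one, map_one]
  have hs2 : s ^ (3 * (q0 - 1)) ≠ 1 := by
    intro h
    rw [hs, ← map_pow] at h
    have h1 : s0 ^ (3 * (q0 - 1)) = 1 := by
      apply Units.map_injective (f := (f0 : F →* k)) f0.injective
      rw [h, map_one]
    have h2 := orderOf_dvd_of_pow_eq_one h1
    rw [hord] at h2
    have h4 := Nat.le_of_dvd (by omega) h2
    obtain ⟨m, rfl⟩ : ∃ m, q0 = m + 1 := ⟨q0 - 1, by omega⟩
    have e1 : (m + 1) ^ 2 - 1 = m * (m + 2) := by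
      have : (m + 1) ^ 2 = m * (m + 2) + 1 := by ring
      omega
    rw [e1, Nat.add_sub_cancel] at h4
    nlinarith
  have hs1' : s ^ (q0 * q0) = s := by
    have e : q0 * q0 = (q0 ^ 2 - 1) + 1 := by
      have : 1 ≤ q0 ^ 2 := Nat.one_le_pow _ _ (by omega)
      rw [← pow_two]
      omega
    rw [e, pow_succ, hs1, one_mul]
  -- `τ`
  obtain ⟨τ, hτ⟩ : ∃ τ : Fin 3 → kˣ, τ = ![s, s ^ (q0 - 1), (s ^ q0)⁻¹] := ⟨_, rfl⟩
  have t0 : τ 0 = s := by rw [hτ]; rfl
  have t1 : τ 1 = s ^ (q0 - 1) := by rw [hτ]; rfl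
  have t2 : τ 2 = (s ^ q0)⁻¹ := by rw [hτ]; rfl
  have hq1 : s ^ (q0 - 1) * s = s ^ q0 := by
    rw [← pow_succ]
    congr 1
    omega
  have hprod : τ 0 * τ 1 * τ 2 = 1 := by
    rw [t0, t1, t2, mul_comm s, hq1, mul_inv_cancel]
  have hC : ∀ x, (τ x) ^ q0 * τ (2 - x) = 1 := by
    intro x
    fin_cases x
    · show (τ 0) ^ q0 * τ 2 = 1
      rw [t0, t2, mul_inv_cancel]
    · show (τ 1) ^ q0 * τ 1 = 1
      rw [t1, ← pow_succ, ← pow_mul]
      have e : (q0 - 1) * (q0 + 1) = q0 ^ 2 - 1 := by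
        obtain ⟨m, rfl⟩ : ∃ m, q0 = m + 1 := ⟨q0 - 1, by omega⟩
        have : (m + 1) ^ 2 = m * (m + 2) + 1 := by ring
        rw [this]
        simp
      rw [e, hs1]
    · show (τ 2) ^ q0 * τ 0 = 1
      rw [t0, t2, inv_pow, ← pow_mul, hs1', inv_mul_cancel]
  obtain ⟨g, hg⟩ := hH (fun x => (τ x : k)) (fun x => (τ x).ne_zero) (by
    have h5 := congrArg (fun z : kˣ => (z : k)) hprod
    exact h5)
  have hC' : ∀ x, θ (τ x : k) * (τ (2 - x) : k) = 1 := by
    intro x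
    rw [hθ, ← Units.val_pow_eq_pow_val, ← Units.val_mul, hC, Units.val_one]
  -- the dual module
  obtain ⟨φ', T', hpair⟩ := exists_dual ι hK D (dul ((emb f0).comp ρ0)) T
  obtain ⟨B, hB⟩ := T.bas
  have hg' : ∀ c x y, V' k g (evc ι p i φ' c x y) = ((τ y : k) * (τ (2 - x) : k)⁻¹) • evc ι p i φ' c x y := by
    intro c x y
    rw [← sub_eq_zero]
    refine (dul (MonoidHom.id ↥(Zgrp k))).right _ fun v => ?_
    have h5 : ∀ z, tfL k (B z) (V' k g (evc ι p i φ' c x y) -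
        ((τ y : k) * (τ (2 - x) : k)⁻¹) • evc ι p i φ' c x y) = 0 := by
      rintro ⟨c', x', y'⟩
      rw [hB, map_sub, map_smul, smul_eq_mul]
      have h6 := Cfsg.Agent.H163.E6.Act.tf_act g (evc ι p i φ c' x' y') (evc ι p i φ' c x y)
      rw [hg, Cfsg.Agent.H952.F4.Jord.tf_smul_left] at h6
      have h7 : ((τ x' : k) * (τ (2 - y') : k)⁻¹) ≠ 0 := mul_ne_zero (τ x').ne_zero (inv_ne_zero (τ (2 - y')).ne_zero)
      by_cases h8 : tfL k (evc ι p i φ c' x' y') (evc ι p i φ' c x y) = 0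
      · rw [h8, mul_zero, sub_zero]
        rw [show Cfsg.Agent.H952.F4.tf (evc ι p i φ c' x' y') (evc ι p i φ' c x y) = 0 from h8] at h6
        exact (mul_eq_zero.1 h6).resolve_left h7
      · obtain ⟨-, rfl, rfl⟩ := hpair _ _ _ _ _ _ h8
        have h9 : ∀ z : Fin 3, 2 - (2 - z) = z := by decide
        rw [h9, tfL_apply, tfL_apply, ← h6]
        field_simp
        ring
    have h6 : ∀ u : I27 → k, (tfL k).flip u = 0 → tfL k v u = 0 := fun u hu => LinearMap.congr_fun hu v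
    exact h6 _ (B.ext h5)
  -- the semilinear maps
  have hJ1 : ∀ s' x, semJ θ (((V k).comp ((emb f0).comp ρ0)) s' x) =
      ((V' k).comp ((emb f0).comp ρ0)) s' (semJ θ x) := by
    intro s' x
    exact (V'_J θ ((emb_mem_Gs f0 hθf _).2 (hρ0 s')) x).symm
  rw [hq0] at hθ
  obtain ⟨π, hπ⟩ := exists_perm ι hK D T T' hθ (semJ θ) (semJ_inj θ) hJ1
  rw [← hq0] at hθ
  have hcomm : (V' k g).comp (semJ θ) = (semJ θ).comp (V k g) := by
    refine B.ext fun z => ?_
    obtain ⟨c, x, y⟩ := z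
    rw [hB]
    obtain ⟨κ, hκ⟩ := hπ c x y
    show V' k g (semJ θ (evc ι p i φ c x y)) = semJ θ (V k g (evc ι p i φ c x y))
    rw [hκ, map_smul, hg', hg, LinearMap.map_smulₛₗ, hκ, map_mul, map_inv₀, smul_smul, smul_smul, mul_comm]
    congr 2
    have h5 := hC' x
    have h6 := hC' (2 - y)
    have h9 : ∀ z : Fin 3, 2 - (2 - z) = z := by decide
    rw [h9] at h6
    have n1 : θ (τ (2 - y) : k) ≠ 0 := (map_ne_zero θ).2 (τ _).ne_zero
    have n2 : (τ (2 - x) : k) ≠ 0 := (τ _).ne_zero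
    rw [mul_inv_eq_iff_eq_mul₀ n2, mul_assoc, mul_comm ((θ (τ (2 - y) : k))⁻¹), ← mul_assoc, h5, one_mul]
    exact (inv_eq_of_mul_eq_one_right h6).symm
  have hmem : g ∈ Gs θ := mem_Gs_of_semi fun x => LinearMap.congr_fun hcomm x
  have hcomm2 : ∀ x, V k g (semi (θ.comp θ) x) = semi (θ.comp θ) (V k g x) := by
    intro x
    have h5 : ∀ x, semi (θ.comp θ) x = J θ (J θ x) := fun x => by rw [J_J']; rfl
    rw [h5, h5, V_J θ hmem, V'_J θ hmem]
  obtain ⟨g0, hg0⟩ := Cfsg.Agent.H65.E6Full.exists_of_pow_all f0 g fun i' j' => by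
    have h1 := entry_of_comm hcomm2 i' j'
    rw [RingHom.comp_apply, hθ, hθ, ← pow_mul, ← pow_two, ← hF] at h1
    exact h1
  refine ⟨g0, ?_, fun x => (τ x : k), fun x => (τ x).ne_zero, ?_, fun c x y => by rw [hg0, hg]⟩
  · rw [← emb_mem_Gs f0 hθf, hg0]
    exact hmem
  · intro h
    apply hs2
    have h5 : τ 2 * τ 0 = τ 1 * τ 1 := Units.ext h
    rw [t0, t1, t2] at h5
    have h6 : s = s ^ q0 * (s ^ (q0 - 1) * s ^ (q0 - 1)) := by
      rw [← h5, mul_inv_cancel_left]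
    rw [← hq1] at h6
    have h7 : s ^ (q0 - 1) * s * (s ^ (q0 - 1) * s ^ (q0 - 1)) = s ^ (3 * (q0 - 1)) * s := by
      rw [mul_comm 3, pow_mul]
      generalize s ^ (q0 - 1) = z
      rw [pow_succ, pow_two]
      rw [mul_assoc z s, mul_comm s, ← mul_assoc, ← mul_assoc]
    rw [h7] at h6
    exact mul_eq_right.1 h6.symm

end Cfsg.Agent.R2.H14.T
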