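import Cfsg.Agent.R2.H9.E6.Cfg
import Cfsg.Agent.H65.E6Emb

/-!
# Absolute irreducibility and normal subgroups of `E₆(q)`, `²E₆(q)` (helper14)

`Fam p b Γ` : `Γ = E₆(p^b)` or `²E₆(p^b)` (simply connected); `absIrr` : the 27-dimensional module over any extension field is
irreducible; `normal_eq` : the normal subgroups.
-/

set_option autoImplicit false
set_option linter.unusedSectionVars false

namespace Cfsg.Agent.R2.H14.T

open Cfsg Cfsg.Lie Module Matrix
open Cfsg.Agent.ChevalleyStructure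
open Cfsg.Agent.ChevalleyStructure.E6Min.Basic Cfsg.Agent.ChevalleyStructure.E6Min.Adjoint
open Cfsg.Agent.H163.E6 Cfsg.Agent.H65.E6Emb Cfsg.Agent.H944.E6Tw Cfsg.Agent.H163.E6.Tw
open Cfsg.Agent.R2.H9.E6

universe u v w

/-- the two families -/
def Fam {F : Type u} [Field F] [Fintype F] (p b : ℕ) (Γ : Subgroup ↥(Zgrp F)) : Prop :=
  (Γ = ⊤ ∧ Fintype.card F = p ^ b) ∨
    (Fintype.card F = (p ^ b) ^ 2 ∧ ∃ f : F →+* F, (∀ t, f t = t ^ (p ^ b)) ∧ (∀ t : F, (t ^ (p ^ b)) ^ (p ^ b) = t) ∧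
      Γ = Gs f)

variable {F : Type u} [Field F] [Fintype F] {p b : ℕ}

/-- **normal subgroups** -/
theorem normal_eq (hp : p.Prime) (hb : 1 ≤ b) {Γ N : Subgroup ↥(Zgrp F)} (hΓ : Fam p b Γ) (hN : N ≤ Γ)
    (hn : ∀ g ∈ Γ, ∀ x ∈ N, g * x * g⁻¹ ∈ N) (hk : ∀ z ∈ Γ, ad F z = 1 → z ∈ N) (h1 : ∃ x ∈ N, ad F x ≠ 1) :
    N = Γ := by
  rcases hΓ with ⟨rfl, -⟩ | ⟨hF, f, hf, hqq, rfl⟩
  · have hs : IsSimpleGroup ↥(chevE6.group F) := (S1054.result chevE6 (by simp)).1
    have hnn : N.Normal := ⟨fun x hx g => hn g trivial x hx⟩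
    have hmap : (N.map (ad F)).Normal := hnn.map (ad F) ad_surjective
    rcases hs.eq_bot_or_eq_top_of_normal _ hmap with h | h
    · exfalso
      obtain ⟨x, hx, hx1⟩ := h1
      apply hx1
      have h2 : ad F x ∈ N.map (ad F) := ⟨x, hx, rfl⟩
      rw [h] at h2
      exact Subgroup.mem_bot.1 h2
    · rw [eq_top_iff]
      intro g _
      have h5 : ad F g ∈ N.map (ad F) := by rw [h]; trivial
      obtain ⟨x, hx, hxg⟩ := h5
      have h6 : x⁻¹ * g ∈ N := hk _ trivial (by rw [map_mul, map_inv, hxg, inv_mul_cancel])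
      have h7 := mul_mem hx h6
      rwa [mul_inv_cancel_left] at h7
  · have hq : IsPrimePow (p ^ b) := hp.isPrimePow.pow (by omega)
    have hs : IsSimpleGroup ↥(Cfsg.Lie.twistedE6 F (p ^ b)) := (S1070.result hq hF).1
    have hGl : ∀ g ∈ Gs f, ∃ y, incl F (p ^ b) y = ad F g := by
      intro g hg
      have h2 := Gs_le_Gl hq hF hf hqq hg
      rw [mem_Gl] at h2
      exact ⟨⟨_, h2⟩, Subtype.ext rfl⟩
    have hex : ∀ y : ↥(Cfsg.Lie.twistedE6 F (p ^ b)), ∃ g ∈ Gs f, ad F g = incl F (p ^ b) y := by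
      intro y
      obtain ⟨g, hg, hgy⟩ := exists_Gs f hf hqq y.2
      exact ⟨g, hg, Subtype.ext hgy⟩
    have hmap : ((N.map (ad F)).comap (incl F (p ^ b))).Normal := by
      refine ⟨fun n hn' y => ?_⟩
      obtain ⟨x, hx, hxn⟩ : ∃ x ∈ N, ad F x = incl F (p ^ b) n := hn'
      obtain ⟨g, hg, hgy⟩ := hex y
      refine ⟨g * x * g⁻¹, hn g hg x hx, ?_⟩
      rw [map_mul, map_mul, map_inv, map_mul, map_mul, map_inv, hgy, hxn]
    rcases hs.eq_bot_or_eq_top_of_normal _ hmap with h | h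
    · exfalso
      obtain ⟨x, hx, hx1⟩ := h1
      apply hx1
      obtain ⟨y, hy⟩ := hGl x (hN hx)
      have h2 : y ∈ (N.map (ad F)).comap (incl F (p ^ b)) := ⟨x, hx, hy.symm⟩
      rw [h, Subgroup.mem_bot] at h2
      rw [← hy, h2, map_one]
    · refine le_antisymm hN fun g hg => ?_
      obtain ⟨y, hy⟩ := hGl g hg
      have h5 : y ∈ (N.map (ad F)).comap (incl F (p ^ b)) := by rw [h]; trivial
      obtain ⟨x, hx, hxy⟩ := h5
      have h7 : x⁻¹ * g ∈ N := hk _ (mul_mem (inv_mem (hN hx)) hg) (by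
        rw [map_mul, map_inv, hxy, hy, inv_mul_cancel])
      have h8 := mul_mem hx h7
      rwa [mul_inv_cancel_left] at h8

variable {k : Type v} [Field k] (f0 : F →+* k)

theorem emb_zZ (r : ℕ) (hr : r < 72) (t : F) : emb f0 (zZ r t) = zZ r (f0 t) := by
  apply Subtype.ext
  apply Units.ext
  rw [coe_emb]
  show ((zU r t : GL I27 F) : Matrix I27 I27 F).map f0 = ((zU r (f0 t) : GL I27 k) : Matrix I27 I27 k)
  rw [coe_zU hr, coe_zU hr, zM_map]

/-- `TwIrr.sum_units` over the extension field -/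
theorem sum_units' {M : Type*} [AddCommGroup M] [Module k M] {q : ℕ} (hq : 2 ≤ q) (hF : Fintype.card F = q ^ 2)
    (W : Submodule k M) (a b c : M)
    (h : ∀ t : Fˣ, f0 t • a + f0 t ^ q • b + f0 t ^ (q + 1) • c ∈ W) : a ∈ W ∧ b ∈ W ∧ c ∈ W := by
  letI : Module F M := Module.compHom M f0
  let W' : Submodule F M :=
    { carrier := W
      add_mem' := fun hx hy => W.add_mem hx hy
      zero_mem' := W.zero_mem
      smul_mem' := fun c x hx => W.smul_mem (f0 c) hx }
  refine TwIrr.sum_units hq hF W' a b c fun t => ?_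
  have h1 := h t
  rw [← map_pow, ← map_pow] at h1
  exact h1

/-- **absolute irreducibility** -/
theorem absIrr (hp : p.Prime) (hb : 1 ≤ b) {Γ : Subgroup ↥(Zgrp F)} (hΓ : Fam p b Γ) {W : Submodule k (I27 → k)}
    (hW : ∀ g ∈ Γ, ∀ w ∈ W, V k (emb f0 g) w ∈ W) : W = ⊥ ∨ W = ⊤ := by
  by_cases h0 : W = ⊥
  · exact Or.inl h0
  right
  rcases hΓ with ⟨rfl, -⟩ | ⟨hF, f, hf, hqq, rfl⟩
  · refine TwIrr.eq_top_of_stable (fun r hr w hw => ?_) h0
    have hr' := TwIrr.L12_lt r hr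
    have h1 := hW (zZ r 1) trivial w hw
    rw [emb_zZ f0 r hr', map_one, V_zZ hr', one_smul] at h1
    have h2 := W.sub_mem h1 hw
    rwa [add_sub_cancel_left] at h2
  · have hq : IsPrimePow (p ^ b) := hp.isPrimePow.pow (by omega)
    refine TwIrr.eq_top_of_stable ?_ h0
    have hsingle : ∀ r ∈ [46, 25, 39, 32], ∀ w ∈ W, Nm k r *ᵥ w ∈ W := by
      intro r hr w hw
      have hr' : r < 72 := by
        simp only [List.mem_cons, List.not_mem_nil, or_false] at hr
        omega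
      have h1 := hW _ (zZ_mem_Gs hf (one_pow (p ^ b)) hr) w hw
      rw [emb_zZ f0 r hr', map_one, V_zZ hr', one_smul] at h1
      have h2 := W.sub_mem h1 hw
      rwa [add_sub_cancel_left] at h2
    have hpair : ∀ rs ∈ [(56, 36), (15, 35), (42, 37), (29, 34)], ∀ w ∈ W,
        Nm k rs.1 *ᵥ w ∈ W ∧ Nm k rs.2 *ᵥ w ∈ W := by
      intro rs hrs w hw
      have hr' : rs.1 < 72 ∧ rs.2 < 72 := by
        simp only [List.mem_cons, List.not_mem_nil, or_false] at hrs
        rcases hrs with rfl | rfl | rfl | rfl <;> decide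
      have h1 := sum_units' f0 hq.two_le hF W (Nm k rs.1 *ᵥ w) (Nm k rs.2 *ᵥ w) (Nm k rs.1 *ᵥ (Nm k rs.2 *ᵥ w)) (by
        intro t
        have h2 := hW _ (zZ_pair_mem_Gs hf hqq (t : F) hrs) w hw
        rw [map_mul, map_mul, emb_zZ f0 _ hr'.1, emb_zZ f0 _ hr'.2, Module.End.mul_apply, V_zZ hr'.2, V_zZ hr'.1,
          map_pow] at h2
        have h3 := W.sub_mem h2 hw
        convert h3 using 1
        rw [Matrix.mulVec_add, Matrix.mulVec_smul, smul_add, smul_smul, pow_succ']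
        abel)
      exact ⟨h1.1, h1.2.1⟩
    intro r hr w hw
    have h56 := hpair (56, 36) (by decide) w hw
    have h15 := hpair (15, 35) (by decide) w hw
    have h42 := hpair (42, 37) (by decide) w hw
    have h29 := hpair (29, 34) (by decide) w hw
    simp only [TwIrr.L12, List.mem_cons, List.not_mem_nil, or_false] at hr
    rcases hr with rfl | rfl | rfl | rfl | rfl | rfl | rfl | rfl | rfl | rfl | rfl | rfl
    · exact hsingle 46 (by decide) w hw
    · exact hsingle 25 (by decide) w hw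
    · exact hsingle 39 (by decide) w hw
    · exact hsingle 32 (by decide) w hw
    · exact h56.1
    · exact h56.2
    · exact h15.1
    · exact h15.2
    · exact h42.1
    · exact h42.2
    · exact h29.1
    · exact h29.2

end Cfsg.Agent.R2.H14.T
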