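import Cfsg.Agent.R2.H14.T.Stab

/-!
# T-type: the main theorem (helper14)

* `false_of_torH` : the configuration is impossible if `V_k` is of type `TT` (`22^{ij} + 22^{jk} + 22^{ki}`) and the
  diagonal elements belong to the group (`TorH`); all odd `p`;
* `boxT`, `boxT'` : the result for `p ≥ 5`, for three submodules of `V_k` or `V'_k`.
-/

set_option autoImplicit false
set_option linter.unusedSectionVars false

namespace Cfsg.Agent.R2.H14.T

open Cfsg Cfsg.Lie Module Matrix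
open Cfsg.Agent.H943.SL2Rel Cfsg.Agent.H943.SL2Mod Cfsg.Agent.H943.RepAdd Cfsg.Agent.R2.H28.SL2
open Cfsg.Agent.ChevalleyStructure.E6Min.Basic Cfsg.Agent.ChevalleyStructure.E6Min.Adjoint
open Cfsg.Agent.H163.E6 Cfsg.Agent.H65.E6Emb
open Cfsg.Agent.R2.H9.E6

universe u v w

variable {k : Type u} [Field k] [DecidableEq k] [IsAlgClosed k] {K : Type w} [Field K] [Fintype K] [DecidableEq K]
  (ι : K →+* k)
variable {p a b : ℕ} [Fact p.Prime] [CharP k p] [CharP K p] {i : Fin 3 → ℕ}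
variable {F : Type v} [Field F] [Fintype F] (f0 : F →+* k)
variable {Γ M : Subgroup ↥(Zgrp F)} {ψ : ProjectiveSpecialLinearGroup (Fin 2) K →* ↥(Zgrp F)}
variable (hC : Cfg p a b Γ M ψ) (D : Dg3 p a i)

include hC D

/-- a rational torus element -/
theorem exists_rat {φ : ∀ c : Fin 3, Vb ι (bw p i c) →ₗ[k] (I27 → k)}
    (T : TT ι p i ((V k).comp ((emb f0).comp (ψ.comp pq))) φ) (hH : TorH (evc ι p i φ)) :
    ∃ g0 ∈ Γ, ∃ τ : Fin 3 → k, (∀ x, τ x ≠ 0) ∧ τ 2 * τ 0 ≠ τ 1 * τ 1 ∧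
      ∀ c x y, V k (emb f0 g0) (evc ι p i φ c x y) = (τ x * (τ (2 - y))⁻¹) • evc ι p i φ c x y := by
  rcases hC.fam with ⟨hΓ, hF, -⟩ | ⟨hF, f, hf, -, hΓ⟩
  · obtain ⟨g0, τ, h1, h2, h3⟩ := rat_untw ι f0 hC.cardK D hF T hH
    exact ⟨g0, by rw [hΓ]; trivial, τ, h1, h2, h3⟩
  · obtain ⟨g0, hg0, τ, h1, h2, h3⟩ := rat_tw ι f0 hC.cardK D hC.hb hF hf (fun s => by
      rw [← hΓ]
      exact hC.set.hle (hC.set.le ⟨pq s, rfl⟩)) T hH
    exact ⟨g0, by rw [hΓ]; exact hg0, τ, h1, h2, h3⟩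

/-- **the general theorem, all odd `p`** -/
theorem false_of_torH {φ : ∀ c : Fin 3, Vb ι (bw p i c) →ₗ[k] (I27 → k)}
    (T : TT ι p i ((V k).comp ((emb f0).comp (ψ.comp pq))) φ) (hH : TorH (evc ι p i φ)) : False := by
  have hK := hC.cardK
  obtain ⟨g0, hg0, τ, ht, hτ, hg⟩ := exists_rat ι f0 hC D T hH
  have hμ : ∀ x y, τ x * (τ (2 - y))⁻¹ ≠ 0 := fun x y => mul_ne_zero (ht _) (inv_ne_zero (ht _))
  have hginv : ∀ c x y, V k (emb f0 g0)⁻¹ (evc ι p i φ c x y) = (τ x * (τ (2 - y))⁻¹)⁻¹ • evc ι p i φ c x y := by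
    intro c x y
    have h1 := Cfsg.Agent.H163.E6.Act.V_inv_apply (emb f0 g0) (evc ι p i φ c x y)
    rw [hg, map_smul] at h1
    nth_rewrite 2 [← h1]
    rw [smul_smul, inv_mul_cancel₀ (hμ x y), one_smul]
  -- `g0 ∈ M`
  have hM : g0 ∈ M := by
    refine mem_M ι f0 hC D T hg0 fun c => ?_
    apply le_antisymm
    · rintro _ ⟨v, hv, rfl⟩
      obtain ⟨κ, hκ⟩ := range_eq ι hK D φ hv
      rw [hκ, map_sum]
      refine sum_mem fun z _ => ?_
      rw [map_smul, hg]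
      exact Submodule.smul_mem _ _ (Submodule.smul_mem _ _ (evc_mem ι hK D φ _ _ _))
    · intro v hv
      obtain ⟨κ, hκ⟩ := range_eq ι hK D φ hv
      rw [hκ]
      refine sum_mem fun z _ => Submodule.smul_mem _ _ ?_
      refine ⟨(τ z.1 * (τ (2 - z.2))⁻¹)⁻¹ • evc ι p i φ c z.1 z.2,
        Submodule.smul_mem _ _ (evc_mem ι hK D φ _ _ _), ?_⟩
      rw [map_smul, hg, smul_smul, inv_mul_cancel₀ (hμ _ _), one_smul]
  -- conjugation of `u 1`
  obtain ⟨ac, hac, -, -⟩ := hC.set.act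
  obtain ⟨s, hs⟩ := pq_surjective (ac ⟨g0, hM⟩ (pq (u (1 : K))))
  have h1 : ∀ x, ((V k).comp ((emb f0).comp (ψ.comp pq))) s x =
      V k (emb f0 g0) (((V k).comp ((emb f0).comp (ψ.comp pq))) (u (1 : K)) (V k (emb f0 g0)⁻¹ x)) := by
    intro x
    show V k (emb f0 (ψ (pq s))) x = V k (emb f0 g0) (V k (emb f0 (ψ (pq (u (1 : K))))) (V k (emb f0 g0)⁻¹ x))
    rw [hs, hac]
    show V k (emb f0 (g0 * ψ (pq (u (1 : K))) * g0⁻¹)) x = _
    rw [← Module.End.mul_apply, ← Module.End.mul_apply, ← map_mul, ← map_mul, ← map_inv, ← map_mul, ← map_mul,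
      mul_assoc]
  obtain ⟨u2, u1, u0⟩ := u_one ι hK D T
  have e2 : (2 - 2 : Fin 3) = 0 := rfl
  have hd0 : τ 0 * (τ 0)⁻¹ = 1 := mul_inv_cancel₀ (ht 0)
  have f2 : ((V k).comp ((emb f0).comp (ψ.comp pq))) s (evc ι p i φ 0 2 2) = evc ι p i φ 0 2 2 := by
    rw [h1, hginv, map_smul, u2, map_smul, hg, smul_smul, inv_mul_cancel₀ (hμ _ _), one_smul]
  have f1 : ((V k).comp ((emb f0).comp (ψ.comp pq))) s (evc ι p i φ 0 1 2) = evc ι p i φ 0 1 2 +
      (τ 2 * (τ 1)⁻¹) • evc ι p i φ 0 2 2 := by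
    rw [h1, hginv, map_smul, u1, smul_add, map_add, map_smul, map_smul, hg, hg, smul_smul, smul_smul,
      inv_mul_cancel₀ (hμ _ _), one_smul, e2]
    congr 2
    have := ht 0
    have := ht 1
    field_simp
  have f0' : ((V k).comp ((emb f0).comp (ψ.comp pq))) s (evc ι p i φ 0 0 2) = evc ι p i φ 0 0 2 +
      (2 * (τ 1 * (τ 0)⁻¹)) • evc ι p i φ 0 1 2 + (τ 2 * (τ 0)⁻¹) • evc ι p i φ 0 2 2 := by
    rw [h1, hginv, map_smul, u0, e2, hd0, inv_one, one_smul, map_add, map_add, map_smul, hg, hg, hg, e2, hd0,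
      one_smul, smul_smul]
  have h2 := fin_model ι hK D T f2 f1 f0'
  apply hτ
  have := ht 0
  have := ht 1
  field_simp at h2
  rw [pow_two] at h2
  exact h2

/-- **`p ≥ 5`** -/
theorem false_of_TT (hp : 5 ≤ p) {φ : ∀ c : Fin 3, Vb ι (bw p i c) →ₗ[k] (I27 → k)}
    (T : TT ι p i ((V k).comp ((emb f0).comp (ψ.comp pq))) φ) : False :=
  false_of_torH ι f0 hC D T (torH_of_five ι hC.cardK D hp T fun _ _ _ _ => T3_act _ _ _ _)

/-- **the submodules of `V_k`** -/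
theorem boxT (hp : 5 ≤ p) (X : Fin 3 → Submodule k (I27 → k))
    (hX : ∀ c s, ∀ x ∈ X c, ((V k).comp ((emb f0).comp (ψ.comp pq))) s x ∈ X c)
    (hV : ∀ c, IsV ι p (subRep ((V k).comp ((emb f0).comp (ψ.comp pq))) (X c) (hX c)) (bw p i c)) : False := by
  obtain ⟨φ, T, -, -⟩ := exists_TT ι ((V k).comp ((emb f0).comp (ψ.comp pq))) hC.cardK D (by
    rw [Module.finrank_fintype_fun_eq_card]
    decide) X hX hV
  exact false_of_TT ι f0 hC D hp T

/-- the submodules of `V'_k` give `TT` for `V_k` -/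
theorem exists_TT_of_dual (X : Fin 3 → Submodule k (I27 → k))
    (hX : ∀ c s, ∀ x ∈ X c, ((V' k).comp ((emb f0).comp (ψ.comp pq))) s x ∈ X c)
    (hV : ∀ c, IsV ι p (subRep ((V' k).comp ((emb f0).comp (ψ.comp pq))) (X c) (hX c)) (bw p i c)) :
    ∃ φ : ∀ c : Fin 3, Vb ι (bw p i c) →ₗ[k] (I27 → k), TT ι p i ((V k).comp ((emb f0).comp (ψ.comp pq))) φ := by
  obtain ⟨φ, T, -, -⟩ := exists_TT ι ((V' k).comp ((emb f0).comp (ψ.comp pq))) hC.cardK D (by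
    rw [Module.finrank_fintype_fun_eq_card]
    decide) X hX hV
  obtain ⟨φ', T', -⟩ := exists_dual ι hC.cardK D (dul ((emb f0).comp (ψ.comp pq))).flip T
  exact ⟨φ', T'⟩

/-- **the submodules of `V'_k`** -/
theorem boxT' (hp : 5 ≤ p) (X : Fin 3 → Submodule k (I27 → k))
    (hX : ∀ c s, ∀ x ∈ X c, ((V' k).comp ((emb f0).comp (ψ.comp pq))) s x ∈ X c)
    (hV : ∀ c, IsV ι p (subRep ((V' k).comp ((emb f0).comp (ψ.comp pq))) (X c) (hX c)) (bw p i c)) : False := by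
  obtain ⟨φ', T'⟩ := exists_TT_of_dual ι f0 hC D X hX hV
  exact false_of_TT ι f0 hC D hp T'

end Cfsg.Agent.R2.H14.T
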