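import Cfsg.Agent.R2.H28.SL2.Lift
import Cfsg.Agent.R2.H14.T.TB

/-!
# T-type: semilinear maps (helper14)

`exists_perm` : an equivariant injective semilinear map (`c ↦ c ^ (p ^ n)`) between two modules of type `TT` maps
`e₁ c x y` to a multiple of `e₂ (π c) x y`.
-/

set_option autoImplicit false
set_option linter.unusedSectionVars false

namespace Cfsg.Agent.R2.H14.T

open Matrix Cfsg.Agent.H943.SL2Rel Cfsg.Agent.H943.SL2Mod Cfsg.Agent.H943.RepAdd Cfsg.Agent.R2.H28.SL2

variable {k : Type*} [Field k] [DecidableEq k] {K : Type*} [Field K] [Fintype K] [DecidableEq K] (ι : K →+* k)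

/-- integral powers -/
theorem dvd_of_zpow {m n : ℤ} (h : ∀ t : Kˣ, ι (t : K) ^ m = ι (t : K) ^ n) :
    ((Fintype.card K - 1 : ℕ) : ℤ) ∣ m - n := by
  obtain ⟨lam, hlam⟩ := IsCyclic.exists_generator (α := Kˣ)
  have hprim := primitive ι ι.injective hlam
  have h0 : ι (lam : K) ≠ 0 := (map_ne_zero ι).2 lam.ne_zero
  rw [← hprim.zpow_eq_one_iff_dvd, zpow_sub₀ h0, h lam, div_self (zpow_ne_zero _ h0)]

variable {p : ℕ} [Fact p.Prime] [CharP k p] [CharP K p] {i : Fin 3 → ℕ}
variable {V : Type*} [AddCommGroup V] [Module k V] {ρ : Representation k (SpecialLinearGroup (Fin 2) K) V}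
variable {a : ℕ} (hK : Fintype.card K = p ^ a) (D : Dg3 p a i)

include hK D

theorem evc_mem (φ : ∀ c : Fin 3, Vb ι (bw p i c) →ₗ[k] V) (c x y : Fin 3) :
    evc ι p i φ c x y ∈ LinearMap.range (φ c) := ⟨_, rfl⟩

theorem range_eq (φ : ∀ c : Fin 3, Vb ι (bw p i c) →ₗ[k] V) {c : Fin 3} {v : V} (hv : v ∈ LinearMap.range (φ c)) :
    ∃ κ : Fin 3 × Fin 3 → k, v = ∑ x, κ x • evc ι p i φ c x.1 x.2 := by
  obtain ⟨f, rfl⟩ := hv
  obtain ⟨κ, hκ⟩ := exists_sum ι hK D c f
  refine ⟨κ, ?_⟩
  rw [hκ, map_sum]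
  exact Finset.sum_congr rfl fun x _ => by rw [map_smul]; rfl

theorem range_inv {φ : ∀ c : Fin 3, Vb ι (bw p i c) →ₗ[k] V} (T : TT ι p i ρ φ) (c : Fin 3) (g) {v : V}
    (hv : v ∈ LinearMap.range (φ c)) : ρ g v ∈ LinearMap.range (φ c) := by
  obtain ⟨f, rfl⟩ := hv
  have hb : bw p i c ≤ Fintype.card K - 1 := by rw [hK]; exact (D.bw_lt c).le
  exact ⟨RB ι p hb g f, T.eqv c g f _ rfl⟩

/-- fixed vectors of `U` -/
theorem ufix {φ : ∀ c : Fin 3, Vb ι (bw p i c) →ₗ[k] V} (T : TT ι p i ρ φ) {v : V} (hv : ∀ t, ρ (u t) v = v) :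
    ∃ κ : Fin 3 → k, v = ∑ c, κ c • evc ι p i φ c 2 2 := by
  have h5 := D.three
  have hq := one_lt (F := K)
  obtain ⟨B, hB⟩ := T.bas
  have h2 : (2 : k) ≠ 0 := by
    intro h
    have : ((2 : ℕ) : k) = 0 := by exact_mod_cast h
    rw [CharP.cast_eq_zero_iff k p] at this
    have := Nat.le_of_dvd (by norm_num) this
    omega
  have hz : ∀ d, Dm ι ρ (p ^ i d) v = 0 := by
    intro d
    have hN : p ^ i d < Fintype.card K - 1 := by
      rw [hK]
      have h1 : p * p ^ i d ≤ p ^ a := by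
        rw [← pow_succ']
        exact Nat.pow_le_pow_right (by omega) (D.lt d)
      have h3 : 1 ≤ p ^ i d := Nat.one_le_pow _ _ (by omega)
      have h4 : 3 * p ^ i d ≤ p ^ a := le_trans (Nat.mul_le_mul_right _ h5) h1
      omega
    have hN1 : 1 ≤ p ^ i d := Nat.one_le_pow _ _ (by omega)
    rw [Dm_apply, Finset.sum_congr rfl fun t _ => by rw [hv t], ← Finset.sum_smul, psum ι (by omega),
      if_neg (by omega), zero_smul, neg_zero]
  obtain ⟨κ, hκ⟩ : ∃ κ : Fin 3 × Fin 3 × Fin 3 → k, κ = B.repr v := ⟨_, rfl⟩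
  have hv' : v = ∑ x, κ x • B x := by
    rw [hκ]
    exact (B.sum_repr v).symm
  have hBe : ∀ x, B x = evc ι p i φ x.1 x.2.1 x.2.2 := fun x => hB x.1 x.2.1 x.2.2
  -- first digit
  have k1 : ∀ c x y, x ≠ 2 → κ (c, x, y) = 0 := by
    intro c x y hx
    have h1 := hz (c + 1)
    rw [hv', map_sum] at h1
    have h3 := congrArg (fun w => B.repr w (c, x + 1, y)) h1
    simp only [map_sum, map_smul, map_zero, Finsupp.coe_zero, Pi.zero_apply] at h3
    rw [Finsupp.finsetSum_apply, Finset.sum_eq_single (c, x, y)] at h3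
    · rw [hB, evE1 ι hK D T, map_smul, ← hB, Module.Basis.repr_self] at h3
      simp only [Finsupp.smul_apply, Finsupp.single_eq_same, smul_eq_mul, mul_one] at h3
      refine (mul_eq_zero.1 h3).resolve_right ?_
      have key : ∀ x : Fin 3, x ≠ 2 → x = 0 ∨ x = 1 := by decide
      rcases key x hx with rfl | rfl
      · exact h2
      · exact one_ne_zero
    · rintro ⟨c', x', y'⟩ - hne
      rw [hB]
      have h6 : ∀ d c : Fin 3, d = c ∨ d = c + 1 ∨ d = c + 2 := by decide
      rcases h6 (c + 1) c' with h7 | h7 | h7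
      · rw [h7, evE0 ι hK D T, map_zero, smul_zero]
        rfl
      · rw [h7, evE1 ι hK D T, map_smul, ← hB, Module.Basis.repr_self]
        simp only [Finsupp.smul_apply, smul_eq_mul]
        rw [Finsupp.single_eq_of_ne]
        · ring
        · intro h8
          apply hne
          rw [Prod.mk.injEq, Prod.mk.injEq] at h8
          obtain ⟨h8, h9, h10⟩ := h8
          rw [← h8, add_right_cancel h9, ← h10]
      · rw [h7, evE2 ι hK D T, map_smul, ← hB, Module.Basis.repr_self]
        simp only [Finsupp.smul_apply, smul_eq_mul]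
        rw [Finsupp.single_eq_of_ne]
        · ring
        · intro h8
          rw [Prod.mk.injEq] at h8
          rw [← h8.1] at h7
          exact ne21 c h7.symm
    · intro h
      exact absurd (Finset.mem_univ _) h
  -- second digit
  have k2 : ∀ c x y, y ≠ 2 → κ (c, x, y) = 0 := by
    intro c x y hy
    have h1 := hz (c + 2)
    rw [hv', map_sum] at h1
    have h3 := congrArg (fun w => B.repr w (c, x, y + 1)) h1
    simp only [map_sum, map_smul, map_zero, Finsupp.coe_zero, Pi.zero_apply] at h3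
    rw [Finsupp.finsetSum_apply, Finset.sum_eq_single (c, x, y)] at h3
    · rw [hB, evE2 ι hK D T, map_smul, ← hB, Module.Basis.repr_self] at h3
      simp only [Finsupp.smul_apply, Finsupp.single_eq_same, smul_eq_mul, mul_one] at h3
      refine (mul_eq_zero.1 h3).resolve_right ?_
      have key : ∀ x : Fin 3, x ≠ 2 → x = 0 ∨ x = 1 := by decide
      rcases key y hy with rfl | rfl
      · exact h2
      · exact one_ne_zero
    · rintro ⟨c', x', y'⟩ - hne
      rw [hB]
      have h6 : ∀ d c : Fin 3, d = c ∨ d = c + 1 ∨ d = c + 2 := by decide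
      rcases h6 (c + 2) c' with h7 | h7 | h7
      · rw [h7, evE0 ι hK D T, map_zero, smul_zero]
        rfl
      · rw [h7, evE1 ι hK D T, map_smul, ← hB, Module.Basis.repr_self]
        simp only [Finsupp.smul_apply, smul_eq_mul]
        rw [Finsupp.single_eq_of_ne]
        · ring
        · intro h8
          rw [Prod.mk.injEq] at h8
          rw [← h8.1] at h7
          exact ne21 c h7
      · rw [h7, evE2 ι hK D T, map_smul, ← hB, Module.Basis.repr_self]
        simp only [Finsupp.smul_apply, smul_eq_mul]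
        rw [Finsupp.single_eq_of_ne]
        · ring
        · intro h8
          apply hne
          rw [Prod.mk.injEq, Prod.mk.injEq] at h8
          obtain ⟨h8, h9, h10⟩ := h8
          rw [← h8, ← h9, add_right_cancel h10]
    · intro h
      exact absurd (Finset.mem_univ _) h
  refine ⟨fun c => κ (c, 2, 2), ?_⟩
  nth_rewrite 1 [hv']
  rw [Fintype.sum_prod_type]
  refine Finset.sum_congr rfl fun c _ => ?_
  rw [Finset.sum_eq_single (2, 2)]
  · rw [hB]
  · rintro ⟨x, y⟩ - hne
    by_cases hx : x = 2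
    · by_cases hy : y = 2
      · exact absurd (by rw [hx, hy]) hne
      · rw [k2 c x y hy, zero_smul]
    · rw [k1 c x y hx, zero_smul]
  · intro h
    exact absurd (Finset.mem_univ _) h

/-- generation by the highest weight vectors -/
theorem gen {φ : ∀ c : Fin 3, Vb ι (bw p i c) →ₗ[k] V} (T : TT ι p i ρ φ) {N : Submodule k V} (hN : ∀ g, ∀ v ∈ N, ρ g v ∈ N)
    {c : Fin 3} (h : evc ι p i φ c 2 2 ∈ N) (x y : Fin 3) : evc ι p i φ c x y ∈ N := by
  have h5 := D.three
  have h2 : (-2 : k) ≠ 0 := by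
    intro h
    have h1 : (2 : k) = 0 := neg_eq_zero.1 h
    have : ((2 : ℕ) : k) = 0 := by exact_mod_cast h1
    rw [CharP.cast_eq_zero_iff k p] at this
    have := Nat.le_of_dvd (by norm_num) this
    omega
  have O := ops ι hK D T
  have hF : ∀ n v, v ∈ N → ρ w⁻¹ (Dm ι ρ n (ρ w v)) ∈ N := fun n v hv => hN _ _ (Dm_mem_inv ι ρ hN n (hN _ _ hv))
  have f1 : ∀ x y, evc ι p i φ c x y ∈ N → cF k x ≠ 0 → evc ι p i φ c (x - 1) y ∈ N := by
    intro x y h h0
    have h1 := O.F1 c x y
    have h3 := hF (p ^ i (c + 1)) _ h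
    have h4 : cF k x • evc ι p i φ c (x - 1) y ∈ N := by
      rw [← h1]
      exact h3
    have h6 := N.smul_mem (cF k x)⁻¹ h4
    rwa [smul_smul, inv_mul_cancel₀ h0, one_smul] at h6
  have f2 : ∀ x y, evc ι p i φ c x y ∈ N → cF k y ≠ 0 → evc ι p i φ c x (y - 1) ∈ N := by
    intro x y h h0
    have h1 := O.F2 c x y
    have h3 := hF (p ^ i (c + 2)) _ h
    have h4 : cF k y • evc ι p i φ c x (y - 1) ∈ N := by
      rw [← h1]
      exact h3
    have h6 := N.smul_mem (cF k y)⁻¹ h4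
    rwa [smul_smul, inv_mul_cancel₀ h0, one_smul] at h6
  have n2 : cF k 2 ≠ 0 := h2
  have n1 : cF k 1 ≠ 0 := neg_ne_zero.2 one_ne_zero
  have a1 : evc ι p i φ c 1 2 ∈ N := f1 2 2 h n2
  have a0 : evc ι p i φ c 0 2 ∈ N := f1 1 2 a1 n1
  have ax : ∀ x, evc ι p i φ c x 2 ∈ N := by
    intro x
    fin_cases x
    · exact a0
    · exact a1
    · exact h
  have b1 : evc ι p i φ c x 1 ∈ N := f2 x 2 (ax x) n2
  have b0 : evc ι p i φ c x 0 ∈ N := f2 x 1 b1 n1
  have key : ∀ y : Fin 3, y = 0 ∨ y = 1 ∨ y = 2 := by decide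
  rcases key y with rfl | rfl | rfl
  · exact b0
  · exact b1
  · exact ax x

end Cfsg.Agent.R2.H14.T
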