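import Cfsg.Agent.R2.H14.T.AbsIrr
import Cfsg.Agent.R2.H14.T.RatC

/-!
# T-type: the stabiliser of the decomposition (helper14)

`mem_M` : an element of `Γ` which fixes the three components belongs to the maximal subgroup `M`.
-/

set_option autoImplicit false
set_option linter.unusedSectionVars false

namespace Cfsg.Agent.R2.H14.T

open Cfsg Cfsg.Lie Module Matrix
open Cfsg.Agent.H943.SL2Rel Cfsg.Agent.H943.SL2Mod Cfsg.Agent.H943.RepAdd Cfsg.Agent.R2.H28.SL2
open Cfsg.Agent.ChevalleyStructure.E6Min.Basic Cfsg.Agent.ChevalleyStructure.E6Min.Adjoint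
open Cfsg.Agent.H163.E6 Cfsg.Agent.H65.E6Emb
open Cfsg.Agent.R2.H9.E6

universe u v w

section rep

variable {k : Type*} [Field k] [DecidableEq k] {K : Type*} [Field K] [Fintype K] [DecidableEq K] (ι : K →+* k)
variable {p : ℕ} [Fact p.Prime] [CharP k p] [CharP K p] {i : Fin 3 → ℕ}
variable {V : Type*} [AddCommGroup V] [Module k V] {ρ : Representation k (SpecialLinearGroup (Fin 2) K) V}
variable {a : ℕ} (hK : Fintype.card K = p ^ a) (D : Dg3 p a i)

include hK D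

/-- a non-zero submodule contains one of the components -/
theorem exists_range_le {φ : ∀ c : Fin 3, Vb ι (bw p i c) →ₗ[k] V} (T : TT ι p i ρ φ) {N : Submodule k V}
    (hN : ∀ g, ∀ v ∈ N, ρ g v ∈ N) (h0 : N ≠ ⊥) : ∃ d, LinearMap.range (φ d) ≤ N := by
  have hnt : Nontrivial N := Submodule.nontrivial_iff_ne_bot.2 h0
  obtain ⟨v, hv0, hvu⟩ := exists_ufix (subRep ρ N hN) p
  have hvu' : ∀ t, ρ (u t) (v : V) = v := fun t => congrArg Subtype.val (hvu t)
  have hv0' : (v : V) ≠ 0 := fun h => hv0 (Subtype.ext h)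
  obtain ⟨κ, hκ⟩ := ufix ι hK D T hvu'
  obtain ⟨lam, hlam⟩ := IsCyclic.exists_generator (α := Kˣ)
  have hprim := primitive ι ι.injective hlam
  have hl0 : ι (lam : K) ≠ 0 := (map_ne_zero ι).2 lam.ne_zero
  obtain ⟨x, hx⟩ : ∃ x : Fin 3 → k, x = fun d => ι (lam : K) ^ W p i d 2 2 := ⟨_, rfl⟩
  have hxe : ∀ d, ρ (h lam) (evc ι p i φ d 2 2) = x d • evc ι p i φ d 2 2 := by
    intro d
    rw [ev_h ι hK D T, hx]
  have hxd : ∀ c d, c ≠ d → x c - x d ≠ 0 := by
    intro c d hcd h1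
    apply hcd
    apply D.W_top
    rw [← hK, ← hprim.zpow_eq_one_iff_dvd, zpow_sub₀ hl0]
    have h2 := sub_eq_zero.1 h1
    rw [hx] at h2
    have h3 : ι (lam : K) ^ W p i c 2 2 = ι (lam : K) ^ W p i d 2 2 := h2
    rw [h3]
    exact div_self (zpow_ne_zero _ hl0)
  obtain ⟨d, hd⟩ : ∃ d, κ d ≠ 0 := by
    by_contra hc
    push Not at hc
    apply hv0'
    rw [hκ]
    exact Finset.sum_eq_zero fun d _ => by rw [hc d, zero_smul]
  refine ⟨d, ?_⟩
  -- the top vector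
  have hstep : ∀ (y : k) (w : V), w ∈ N → ρ (h lam) w - y • w ∈ N := fun y w hw =>
    N.sub_mem (hN _ _ hw) (N.smul_mem _ hw)
  have htop : evc ι p i φ d 2 2 ∈ N := by
    have h1 := hstep (x (d + 2)) _ (hstep (x (d + 1)) _ v.2)
    have hsum : (v : V) = κ d • evc ι p i φ d 2 2 + κ (d + 1) • evc ι p i φ (d + 1) 2 2 +
        κ (d + 2) • evc ι p i φ (d + 2) 2 2 := by
      rw [hκ, Fin.sum_univ_three]
      have key : ∀ d : Fin 3, d = 0 ∨ d = 1 ∨ d = 2 := by decide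
      rcases key d with h | h | h
      · rw [h]
        rfl
      · rw [h, show (1 + 1 : Fin 3) = 2 from rfl, show (1 + 2 : Fin 3) = 0 from rfl]
        abel
      · rw [h, show (2 + 1 : Fin 3) = 0 from rfl, show (2 + 2 : Fin 3) = 1 from rfl]
        abel
    have h2 : ρ (h lam) (ρ (h lam) (v : V) - x (d + 1) • (v : V)) - x (d + 2) • (ρ (h lam) (v : V) - x (d + 1) • (v : V)) =
        (κ d * ((x d - x (d + 1)) * (x d - x (d + 2)))) • evc ι p i φ d 2 2 := by
      rw [hsum]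
      simp only [map_add, map_sub, map_smul, hxe, smul_add, smul_sub, smul_smul]
      module
    rw [h2] at h1
    have h3 : κ d * ((x d - x (d + 1)) * (x d - x (d + 2))) ≠ 0 :=
      mul_ne_zero hd (mul_ne_zero (hxd _ _ (ne01 d)) (hxd _ _ (ne02 d)))
    have h4 := N.smul_mem (κ d * ((x d - x (d + 1)) * (x d - x (d + 2))))⁻¹ h1
    rwa [smul_smul, inv_mul_cancel₀ h3, one_smul] at h4
  intro w hw
  obtain ⟨κ', hκ'⟩ := range_eq ι hK D φ hw
  rw [hκ']
  exact N.sum_mem fun z _ => N.smul_mem _ (gen ι hK D T hN htop z.1 z.2)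

/-- the dimension of the components -/
theorem finrank_range {φ : ∀ c : Fin 3, Vb ι (bw p i c) →ₗ[k] V} (T : TT ι p i ρ φ) (c : Fin 3) :
    Module.finrank k (LinearMap.range (φ c)) = 9 := by
  have hb : bw p i c ≤ Fintype.card K - 1 := by rw [hK]; exact (D.bw_lt c).le
  rw [LinearMap.finrank_range_of_inj (T.inj ι hK D c),
    Cfsg.Agent.H179.SLC.finrank_Vb ι p ι.injective (neg_one_pow_Q ι) hb, D.card_Bf]

theorem eq_range {φ : ∀ c : Fin 3, Vb ι (bw p i c) →ₗ[k] V} (T : TT ι p i ρ φ) {N : Submodule k V}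
    (hN : ∀ g, ∀ v ∈ N, ρ g v ∈ N) (h9 : Module.finrank k N = 9) : ∃ d, N = LinearMap.range (φ d) := by
  have h0 : N ≠ ⊥ := by
    rintro rfl
    rw [finrank_bot] at h9
    omega
  obtain ⟨d, hd⟩ := exists_range_le ι hK D T hN h0
  have hfin : Module.Finite k N := Module.finite_of_finrank_pos (by omega)
  exact ⟨d, (Submodule.eq_of_le_of_finrank_eq hd (by rw [finrank_range ι hK D T, h9])).symm⟩

end rep

section stab

variable {F : Type u} [Field F] {k : Type v} [Field k] (f0 : F →+* k)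

theorem map_mulV (g h : ↥(Zgrp F)) (W : Submodule k (I27 → k)) :
    W.map (V k (emb f0 (g * h))) = (W.map (V k (emb f0 h))).map (V k (emb f0 g)) := by
  rw [map_mul, map_mul, ← Submodule.map_comp]
  rfl

theorem map_oneV (W : Submodule k (I27 → k)) : W.map (V k (emb f0 1)) = W := by
  rw [map_one, map_one]
  exact Submodule.map_id W

theorem map_invV {g : ↥(Zgrp F)} {W W' : Submodule k (I27 → k)} (h : W.map (V k (emb f0 g)) = W') :
    W'.map (V k (emb f0 g⁻¹)) = W := by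
  rw [← h, ← map_mulV, inv_mul_cancel, map_oneV]

/-- the stabiliser of the set of the components -/
noncomputable def stabY (X : Fin 3 → Submodule k (I27 → k)) (Γ : Subgroup ↥(Zgrp F)) : Subgroup ↥(Zgrp F) where
  carrier := {g | g ∈ Γ ∧ (∀ c, ∃ d, (X c).map (V k (emb f0 g)) = X d) ∧
    ∀ c, ∃ d, (X c).map (V k (emb f0 g⁻¹)) = X d}
  mul_mem' := by
    rintro g h ⟨h1, h2, h3⟩ ⟨h4, h5, h6⟩
    refine ⟨mul_mem h1 h4, fun c => ?_, fun c => ?_⟩
    · obtain ⟨d, hd⟩ := h5 c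
      obtain ⟨e, he⟩ := h2 d
      exact ⟨e, by rw [map_mulV, hd, he]⟩
    · obtain ⟨d, hd⟩ := h3 c
      obtain ⟨e, he⟩ := h6 d
      exact ⟨e, by rw [_root_.mul_inv_rev, map_mulV, hd, he]⟩
  one_mem' := ⟨one_mem _, fun c => ⟨c, map_oneV f0 _⟩, fun c => ⟨c, by rw [inv_one, map_oneV]⟩⟩
  inv_mem' := by
    rintro g ⟨h1, h2, h3⟩
    exact ⟨inv_mem h1, h3, fun c => by rw [inv_inv]; exact h2 c⟩

theorem mem_stabY {X : Fin 3 → Submodule k (I27 → k)} {Γ : Subgroup ↥(Zgrp F)} {g : ↥(Zgrp F)} :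
    g ∈ stabY f0 X Γ ↔ g ∈ Γ ∧ (∀ c, ∃ d, (X c).map (V k (emb f0 g)) = X d) ∧
      ∀ c, ∃ d, (X c).map (V k (emb f0 g⁻¹)) = X d := Iff.rfl

/-- the stabiliser of the components -/
noncomputable def stabZ (X : Fin 3 → Submodule k (I27 → k)) (Γ : Subgroup ↥(Zgrp F)) : Subgroup ↥(Zgrp F) where
  carrier := {g | g ∈ Γ ∧ ∀ c, (X c).map (V k (emb f0 g)) = X c}
  mul_mem' := by
    rintro g h ⟨h1, h2⟩ ⟨h3, h4⟩
    exact ⟨mul_mem h1 h3, fun c => by rw [map_mulV, h4, h2]⟩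
  one_mem' := ⟨one_mem _, fun c => map_oneV f0 _⟩
  inv_mem' := by
    rintro g ⟨h1, h2⟩
    exact ⟨inv_mem h1, fun c => map_invV f0 (h2 c)⟩

theorem mem_stabZ {X : Fin 3 → Submodule k (I27 → k)} {Γ : Subgroup ↥(Zgrp F)} {g : ↥(Zgrp F)} :
    g ∈ stabZ f0 X Γ ↔ g ∈ Γ ∧ ∀ c, (X c).map (V k (emb f0 g)) = X c := Iff.rfl

theorem stabZ_le_stabY (X : Fin 3 → Submodule k (I27 → k)) (Γ : Subgroup ↥(Zgrp F)) :
    stabZ f0 X Γ ≤ stabY f0 X Γ := by
  rintro g ⟨h1, h2⟩
  exact ⟨h1, fun c => ⟨c, h2 c⟩, fun c => ⟨c, map_invV f0 (h2 c)⟩⟩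

end stab

variable {k : Type u} [Field k] [DecidableEq k] [IsAlgClosed k] {K : Type w} [Field K] [Fintype K] [DecidableEq K]
  (ι : K →+* k)
variable {p a b : ℕ} [Fact p.Prime] [CharP k p] [CharP K p] {i : Fin 3 → ℕ}
variable {F : Type v} [Field F] [Fintype F] (f0 : F →+* k)
variable {Γ M : Subgroup ↥(Zgrp F)} {ψ : ProjectiveSpecialLinearGroup (Fin 2) K →* ↥(Zgrp F)}
variable (hC : Cfg p a b Γ M ψ) (D : Dg3 p a i)
variable {φ : ∀ c : Fin 3, Vb ι (bw p i c) →ₗ[k] (I27 → k)}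

include hC D

/-- **the elements which fix the three components belong to `M`** -/
theorem mem_M (T : TT ι p i ((V k).comp ((emb f0).comp (ψ.comp pq))) φ) {g : ↥(Zgrp F)} (hg : g ∈ Γ)
    (hgX : ∀ c, (LinearMap.range (φ c)).map (V k (emb f0 g)) = LinearMap.range (φ c)) : g ∈ M := by
  have hK := hC.cardK
  have hS := hC.set
  obtain ⟨ac, hac, hac1, hacc⟩ := hS.act
  obtain ⟨X, hX⟩ : ∃ X : Fin 3 → Submodule k (I27 → k), X = fun c => LinearMap.range (φ c) := ⟨_, rfl⟩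
  have hX9 : ∀ c, Module.finrank k (X c) = 9 := by
    intro c
    rw [hX]
    exact finrank_range ι hK D T c
  have hXS : ∀ c s, ∀ x ∈ X c, V k (emb f0 (ψ (pq s))) x ∈ X c := by
    intro c s x hx
    rw [hX] at hx ⊢
    exact range_inv ι hK D T c s hx
  have hXA : ∀ c y, ∀ x ∈ X c, V k (emb f0 (ψ y)) x ∈ X c := by
    intro c y x hx
    obtain ⟨s, rfl⟩ := pq_surjective y
    exact hXS c s x hx
  have hfr : ∀ (g : ↥(Zgrp F)) (W : Submodule k (I27 → k)), Module.finrank k (W.map (V k (emb f0 g))) =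
      Module.finrank k W := by
    intro g W
    refine LinearEquiv.finrank_eq (Submodule.equivMapOfInjective _ ?_ W).symm
    intro x y hxy
    have h1 := congrArg (V k (emb f0 g)⁻¹) hxy
    rwa [Cfsg.Agent.H163.E6.Act.V_inv_apply, Cfsg.Agent.H163.E6.Act.V_inv_apply] at h1
  -- `ψ(A)` fixes the components
  have hA : ∀ y c, (X c).map (V k (emb f0 (ψ y))) = X c := by
    intro y c
    have h1 : (X c).map (V k (emb f0 (ψ y))) ≤ X c := by
      rintro _ ⟨x, hx, rfl⟩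
      exact hXA c y x hx
    exact Submodule.eq_of_le_of_finrank_eq h1 (hfr _ _)
  -- `M` permutes the components
  have hM1 : ∀ m ∈ M, ∀ c, ∃ d, (X c).map (V k (emb f0 m)) = X d := by
    intro m hm c
    have h1 : ∀ s, ∀ v ∈ (X c).map (V k (emb f0 m)), ((V k).comp ((emb f0).comp (ψ.comp pq))) s v ∈
        (X c).map (V k (emb f0 m)) := by
      rintro s _ ⟨x, hx, rfl⟩
      have h2 : ψ (pq s) * m = m * ψ (ac ⟨m⁻¹, inv_mem hm⟩ (pq s)) := by
        rw [hac]
        simp only [inv_inv]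
        group
      refine ⟨V k (emb f0 (ψ (ac ⟨m⁻¹, inv_mem hm⟩ (pq s)))) x, hXA c _ x hx, ?_⟩
      show V k (emb f0 m) (V k (emb f0 (ψ (ac ⟨m⁻¹, inv_mem hm⟩ (pq s)))) x) =
        V k (emb f0 (ψ (pq s))) (V k (emb f0 m) x)
      rw [← Module.End.mul_apply, ← Module.End.mul_apply, ← map_mul, ← map_mul, ← map_mul, ← map_mul, h2]
    obtain ⟨d, hd⟩ := eq_range ι hK D T h1 (by rw [hfr, hX9])
    refine ⟨d, ?_⟩
    rw [hd, hX]
  have hMY : M ≤ stabY f0 X Γ := fun m hm => ⟨hS.hle hm, hM1 m hm, hM1 m⁻¹ (inv_mem hm)⟩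
  have hYΓ : stabY f0 X Γ ≤ Γ := fun g hg => hg.1
  have hgY : g ∈ stabY f0 X Γ := stabZ_le_stabY f0 X Γ ⟨hg, by rw [hX]; exact hgX⟩
  rcases hS.max _ hMY hYΓ with h1 | h1
  · rwa [h1] at hgY
  · exfalso
    have hfam : Fam p b Γ := by
      rcases hC.fam with ⟨h2, h3, -⟩ | h2
      · exact Or.inl ⟨h2, h3⟩
      · exact Or.inr h2
    have h2 : stabZ f0 X Γ = Γ := by
      refine normal_eq hC.prime hC.hb hfam (fun g hg => hg.1) ?_ ?_ ?_
      · rintro g hg x ⟨hx, hxX⟩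
        refine ⟨mul_mem (mul_mem hg hx) (inv_mem hg), fun c => ?_⟩
        have h3 : g ∈ stabY f0 X Γ := by rw [h1]; exact hg
        obtain ⟨d, hd⟩ := h3.2.2 c
        have h4 := map_invV f0 hd
        rw [inv_inv] at h4
        rw [map_mulV, map_mulV, hd, hxX, h4]
      · intro z hz hz1
        refine ⟨hz, fun c => ?_⟩
        have h3 : ad k (emb f0 z) = 1 := (ad_emb_eq_one_iff f0 z).2 hz1
        obtain ⟨e, -, he'⟩ := (Cfsg.Agent.H163.E6.Act.ad_eq_one_iff _).1 h3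
        have he : ∀ x, V k (emb f0 z) x = (e : k) • x := by
          intro x
          rw [V_apply, he', Cfsg.Agent.H163.E6.Act.coe_scal, Matrix.smul_mulVec, Matrix.one_mulVec]
        have h4 : (X c).map (V k (emb f0 z)) ≤ X c := by
          rintro _ ⟨x, hx, rfl⟩
          rw [he]
          exact (X c).smul_mem _ hx
        exact Submodule.eq_of_le_of_finrank_eq h4 (hfr _ _)
      · have h7 := hC.seven
        obtain ⟨y, z, hyz⟩ := psl_noncomm (K := K) (by omega)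
        refine ⟨ψ y, ⟨hS.hle (hS.le ⟨y, rfl⟩), hA y⟩, fun h3 => ?_⟩
        have h4 := (hac1 ⟨ψ y, hS.le ⟨y, rfl⟩⟩).2 h3
        rw [hacc] at h4
        have h5 := congrArg (fun (t : MulAut (ProjectiveSpecialLinearGroup (Fin 2) K)) => t z) h4
        simp only [MulAut.conj_apply, MulAut.one_apply] at h5
        exact hyz (mul_inv_eq_iff_eq_mul.1 h5)
    have h3 := absIrr f0 hC.prime hC.hb hfam (W := X 0) (by
      intro g hg w hw
      rw [← h2] at hg
      rw [← hg.2 0]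
      exact ⟨w, hw, rfl⟩)
    have h4 := hX9 0
    rcases h3 with h5 | h5
    · rw [h5, finrank_bot] at h4
      omega
    · obtain ⟨B, -⟩ := T.bas
      rw [h5, finrank_top, Module.finrank_eq_card_basis B] at h4
      revert h4
      decide

end Cfsg.Agent.R2.H14.T
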