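import Cfsg.Agent.H65.E6Full
import Cfsg.Agent.H333.E6Act
import Cfsg.Agent.H952.F4.Jord

/-!
# T-type: diagonal elements of the simply connected group of type `E₆` (helper14)

`T3` : the symmetric trilinear form on the 27-dimensional module, `torus_mem` : a linear map, diagonal with respect to a
basis, compatible with `T3`.
-/

set_option autoImplicit false

namespace Cfsg.Agent.R2.H14.T

open Cfsg Cfsg.Lie Module
open Cfsg.Agent.ChevalleyStructure.E6Min.Tables Cfsg.Agent.ChevalleyStructure.E6Min.Basic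
  Cfsg.Agent.ChevalleyStructure.E6Min.Adjoint Cfsg.Agent.ChevalleyStructure.E6Min.Inv
open Cfsg.Agent.H163.E6
open Cfsg.Agent.H952.F4 (ev es matRep sh cr tf)
open scoped Matrix

universe u

variable (k : Type u) [Field k]

/-- the pairing -/
noncomputable def tfL : (I27 → k) →ₗ[k] (I27 → k) →ₗ[k] k :=
  LinearMap.mk₂ k tf Cfsg.Agent.H952.F4.Jord.tf_add_left (fun c x y => Cfsg.Agent.H952.F4.Jord.tf_smul_left c x y)
    Cfsg.Agent.H952.F4.Jord.tf_add_right (fun c x y => Cfsg.Agent.H952.F4.Jord.tf_smul_right c x y)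

/-- the trilinear form -/
noncomputable def T3 : (I27 → k) →ₗ[k] (I27 → k) →ₗ[k] (I27 → k) →ₗ[k] k :=
  LinearMap.mk₂ k (fun x y => tfL k (cr x y))
    (fun x x' y => by rw [Cfsg.Agent.H952.F4.Jord.cr_add_left, map_add])
    (fun c x y => by rw [Cfsg.Agent.H952.F4.Jord.cr_smul_left, map_smul])
    (fun x y y' => by rw [Cfsg.Agent.H952.F4.Jord.cr_add_right, map_add])
    (fun c x y => by rw [Cfsg.Agent.H952.F4.Jord.cr_smul_right, map_smul])

variable {k}

theorem tfL_apply (x y : I27 → k) : tfL k x y = tf x y := rfl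

theorem T3_apply (x y z : I27 → k) : T3 k x y z = tf (cr x y) z := rfl

theorem T3_s12 (x y z : I27 → k) : T3 k x y z = T3 k y x z := by
  rw [T3_apply, T3_apply, Cfsg.Agent.H952.F4.Jord.cr_comm]

theorem T3_s23 (x y z : I27 → k) : T3 k x y z = T3 k x z y := by
  rw [T3_apply, T3_apply, Cfsg.Agent.H952.F4.Jord.tf_cr, Cfsg.Agent.H952.F4.Jord.tf_cr,
    Cfsg.Agent.H952.F4.Jord.cr_comm y z]

theorem T3_self (x : I27 → k) : T3 k x x x = 6 * cubicT x := by
  rw [T3_apply, Cfsg.Agent.H952.F4.Jord.cr_self, Cfsg.Agent.H952.F4.Jord.tf_smul_left,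
    Cfsg.Agent.H952.F4.Jord.tf_sh_self]
  ring

theorem T3_act (g : ↥(Zgrp k)) (x y z : I27 → k) : T3 k (V k g x) (V k g y) (V k g z) = T3 k x y z := by
  rw [T3_apply, T3_apply, Act.cr_act, Cfsg.Agent.H952.F4.Jord.tf_comm, Act.tf_act,
    Cfsg.Agent.H952.F4.Jord.tf_comm]

theorem T3_act' (g : ↥(Zgrp k)) (x y z : I27 → k) : T3 k (V' k g x) (V' k g y) (V' k g z) = T3 k x y z := by
  rw [← Act.V_gz]
  exact T3_act _ x y z

variable {ι' : Type*} (B : Basis ι' k (I27 → k)) (μ : ι' → k)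

/-- the diagonal map -/
noncomputable def dg : (I27 → k) →ₗ[k] (I27 → k) := B.constr k fun x => μ x • B x

theorem dg_apply (x : ι') : dg B μ (B x) = μ x • B x := B.constr_basis k _ x

variable {B μ}

/-- **diagonal elements** -/
theorem torus_mem (h2 : (2 : k) ≠ 0) (h3 : (3 : k) ≠ 0) (hμ : ∀ x, μ x ≠ 0)
    (h : ∀ x y z, T3 k (B x) (B y) (B z) ≠ 0 → μ x * μ y * μ z = 1) :
    ∃ g : ↥(Zgrp k), ∀ x, V k g x = dg B μ x := by
  -- the group element
  have e1 : dg B μ ∘ₗ dg B (fun x => (μ x)⁻¹) = LinearMap.id := by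
    refine B.ext fun x => ?_
    rw [LinearMap.comp_apply, dg_apply, map_smul, dg_apply, smul_smul, inv_mul_cancel₀ (hμ x), one_smul]
    rfl
  have e2 : dg B (fun x => (μ x)⁻¹) ∘ₗ dg B μ = LinearMap.id := by
    refine B.ext fun x => ?_
    rw [LinearMap.comp_apply, dg_apply, map_smul, dg_apply, smul_smul, mul_inv_cancel₀ (hμ x), one_smul]
    rfl
  let g : GL I27 k := ⟨LinearMap.toMatrix' (dg B μ), LinearMap.toMatrix' (dg B fun x => (μ x)⁻¹), by
    rw [← LinearMap.toMatrix'_comp, e1, LinearMap.toMatrix'_id], by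
    rw [← LinearMap.toMatrix'_comp, e2, LinearMap.toMatrix'_id]⟩
  have hg : ∀ x, (g : Matrix I27 I27 k) *ᵥ x = dg B μ x := fun x => LinearMap.toMatrix'_mulVec _ _
  -- invariance of the trilinear form
  have h4 : ∀ x y z, T3 k (dg B μ x) (dg B μ y) (dg B μ z) = T3 k x y z := by
    intro x y z
    have k1 : ∀ x y, (T3 k (dg B μ (B x)) (dg B μ (B y))) ∘ₗ dg B μ = T3 k (B x) (B y) := by
      intro x y
      refine B.ext fun z => ?_
      rw [LinearMap.comp_apply, dg_apply, dg_apply, dg_apply]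
      simp only [map_smul, LinearMap.smul_apply, smul_eq_mul]
      by_cases h0 : T3 k (B x) (B y) (B z) = 0
      · rw [h0]
        ring
      · have := h x y z h0
        linear_combination (T3 k (B x) (B y) (B z)) * this
    have k2 : ∀ x z, (T3 k (dg B μ (B x))).flip (dg B μ z) ∘ₗ dg B μ = (T3 k (B x)).flip z := by
      intro x z
      refine B.ext fun y => ?_
      exact LinearMap.congr_fun (k1 x y) z
    have k3 : ∀ y z, ((T3 k).flip (dg B μ y)).flip (dg B μ z) ∘ₗ dg B μ = ((T3 k).flip y).flip z := by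
      intro y z
      refine B.ext fun x => ?_
      exact LinearMap.congr_fun (k2 x z) y
    exact LinearMap.congr_fun (k3 y z) x
  have h6 : (6 : k) ≠ 0 := by
    have : (6 : k) = 2 * 3 := by norm_num
    rw [this]
    exact mul_ne_zero h2 h3
  have hmem : g ∈ Zgrp k := by
    rw [Cfsg.Agent.H65.E6Full.Zgrp_eq_of_three ⟨2, h2, fun h => one_ne_zero (α := k) (by linear_combination h)⟩]
    intro v
    have h5 := h4 v v v
    rw [T3_self, T3_self, ← hg] at h5
    exact mul_left_cancel₀ h6 h5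
  exact ⟨⟨g, hmem⟩, fun x => hg x⟩

end Cfsg.Agent.R2.H14.T
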